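import Groth.Agent.QCoh.HHExact
import Groth.Agent.PnCoh.CechNat
import Mathlib.RingTheory.Noetherian.Basic

/-!
# Linearity of the long exact cohomology sequence of modules
-/

universe u

open CategoryTheory CategoryTheory.Limits AlgebraicGeometry TopologicalSpace Opposite
open CategoryTheory.Abelian

namespace Groth.Agent.PnCoh.Finite

variable {X : Scheme.{u}}

theorem smulAb_comm {M N : X.Modules} (φ : M ⟶ N) (r : Coh.Γtop X) :
    Coh.smulAb M r ≫ (QCoh.toAbFunctor X).map φ = (QCoh.toAbFunctor X).map φ ≫ Coh.smulAb N r := by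
  ext U m
  exact (φ.val.app U).hom.map_smul (Coh.resTop X U r) m

theorem map_map_eq {Y : TopCat.{u}} {F G G' K : CohTop.Ab Y} {f : F ⟶ G} {g : G ⟶ K}
    {f' : F ⟶ G'} {g' : G' ⟶ K} (h : f ≫ g = f' ≫ g') (n : ℕ) (x : Sheaf.H F n) :
    Sheaf.H.map g n (Sheaf.H.map f n x) = Sheaf.H.map g' n (Sheaf.H.map f' n x) := by
  rw [← Sheaf.H.map_comp_apply, ← Sheaf.H.map_comp_apply, h]

theorem map_map {Y : TopCat.{u}} {F G K : CohTop.Ab Y} {f : F ⟶ G} {g : G ⟶ K}
    {e : F ⟶ K} (h : f ≫ g = e) (n : ℕ) (x : Sheaf.H F n) :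
    Sheaf.H.map g n (Sheaf.H.map f n x) = Sheaf.H.map e n x := by
  rw [← Sheaf.H.map_comp_apply, h]

variable (A : Type u) [CommRing A] [X.Over (Spec (CommRingCat.of A))]

/-- Functoriality of cohomology, linearly over the base ring. -/
noncomputable def mapLin {M N : X.Modules} (φ : M ⟶ N) (n : ℕ) :
    Coh.HH X M n →ₗ[A] Coh.HH X N n where
  toFun := Sheaf.H.map ((QCoh.toAbFunctor X).map φ) n
  map_add' := map_add _
  map_smul' a x := by
    show Sheaf.H.map ((QCoh.toAbFunctor X).map φ) n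
        (Sheaf.H.map (Coh.smulAb M (Coh.toGlobal (X ↘ Spec (CommRingCat.of A)) a)) n x) =
      Sheaf.H.map (Coh.smulAb N (Coh.toGlobal (X ↘ Spec (CommRingCat.of A)) a)) n
        (Sheaf.H.map ((QCoh.toAbFunctor X).map φ) n x)
    exact map_map_eq (Y := X.toPresheafedSpace.carrier) (smulAb_comm φ _) n x

variable {S : ShortComplex X.Modules}

/-- The connecting map, linearly over the base ring. -/
noncomputable def deltaLin (hS : S.ShortExact) (n : ℕ) :
    Coh.HH X S.X₃ n →ₗ[A] Coh.HH X S.X₁ (n + 1) where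
  toFun := QCoh.Ab.connecting (X := X.toPresheafedSpace.carrier) (QCoh.toAb_shortExact hS) n
  map_add' := map_add _
  map_smul' a x := by
    let r := Coh.toGlobal (X ↘ Spec (CommRingCat.of A)) a
    let α : S.map (QCoh.toAbFunctor X) ⟶ S.map (QCoh.toAbFunctor X) :=
      { τ₁ := Coh.smulAb S.X₁ r
        τ₂ := Coh.smulAb S.X₂ r
        τ₃ := Coh.smulAb S.X₃ r
        comm₁₂ := smulAb_comm S.f r
        comm₂₃ := smulAb_comm S.g r }
    exact (connecting_natural (X := X.toPresheafedSpace.carrier) (QCoh.toAb_shortExact hS) α n x).symm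

theorem exists_of_deltaLin_eq_zero (hS : S.ShortExact) (n : ℕ) {x : Coh.HH X S.X₃ n}
    (h : deltaLin A hS n x = 0) : ∃ y, mapLin A S.g n y = x :=
  (QCoh.Ab.connecting_eq_zero_iff (X := X.toPresheafedSpace.carrier)
    (QCoh.toAb_shortExact hS) n x).1 h

/-- Finiteness of the middle-to-right step. -/
theorem finite_HH_X₃ [IsNoetherianRing A] (hS : S.ShortExact) (n : ℕ)
    (h₂ : Module.Finite A (Coh.HH X S.X₂ n)) (h₁ : Module.Finite A (Coh.HH X S.X₁ (n + 1))) :
    Module.Finite A (Coh.HH X S.X₃ n) := by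
  haveI := h₁
  haveI := h₂
  refine ⟨Submodule.fg_of_fg_map_of_fg_inf_ker (deltaLin A hS n) (IsNoetherian.noetherian _) ?_⟩
  rw [top_inf_eq, show LinearMap.ker (deltaLin A hS n) = LinearMap.range (mapLin A S.g n) from
    le_antisymm (fun x hx => exists_of_deltaLin_eq_zero A hS n (LinearMap.mem_ker.1 hx)) ?_]
  · exact Module.Finite.iff_fg.1 inferInstance
  · rintro _ ⟨y, rfl⟩
    exact LinearMap.mem_ker.2 ((QCoh.Ab.connecting_eq_zero_iff
      (X := X.toPresheafedSpace.carrier) (QCoh.toAb_shortExact hS) n _).2 ⟨y, rfl⟩)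

/-- Cohomology of a module decomposed by finitely many projections. -/
theorem finite_HH_of_decomposition {E : X.Modules} {ι : Type*} [Fintype ι] (T : ι → X.Modules)
    (p : ∀ j, E ⟶ T j) (q : ∀ j, T j ⟶ E) (h : ∑ j, p j ≫ q j = 𝟙 E) (n : ℕ)
    (hT : ∀ j, Module.Finite A (Coh.HH X (T j) n)) : Module.Finite A (Coh.HH X E n) := by
  classical
  let L : (∀ j, Coh.HH X (T j) n) →ₗ[A] Coh.HH X E n :=
    ∑ j, (mapLin A (q j) n).comp (LinearMap.proj j)
  haveI := hT
  refine Module.Finite.of_surjective L fun x => ⟨fun j => mapLin A (p j) n x, ?_⟩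
  rw [LinearMap.sum_apply]
  have h1 : ∀ j, mapLin A (q j) n (mapLin A (p j) n x) = mapLin A (p j ≫ q j) n x := fun j => by
    show Sheaf.H.map _ n (Sheaf.H.map _ n x) = Sheaf.H.map _ n x
    exact map_map (Y := X.toPresheafedSpace.carrier)
      ((QCoh.toAbFunctor X).map_comp (p j) (q j)).symm n x
  simp only [LinearMap.comp_apply, LinearMap.proj_apply, h1]
  show ∑ j, Sheaf.H.map ((QCoh.toAbFunctor X).map (p j ≫ q j)) n x = x
  have h2 : ∀ (s : Finset ι), ∑ j ∈ s, Sheaf.H.map ((QCoh.toAbFunctor X).map (p j ≫ q j)) n x =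
      Sheaf.H.map ((QCoh.toAbFunctor X).map (∑ j ∈ s, p j ≫ q j)) n x := fun s => by
    induction s using Finset.induction with
    | empty =>
      simp only [Finset.sum_empty, Functor.map_zero]
      show (0 : Coh.HH X E n) = ((Sheaf.functorH _ n).map 0).hom x
      rw [Functor.map_zero]; rfl
    | insert a s ha ih =>
      rw [Finset.sum_insert ha, Finset.sum_insert ha, ih, Functor.map_add, Sheaf.H.map_add_apply]
  rw [h2, h, CategoryTheory.Functor.map_id, Sheaf.H.map_id_apply]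

end Groth.Agent.PnCoh.Finite
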