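import Groth.Agent.PnCoh.Finite.HomTwist
import Groth.Agent.KFlatLib.Scheme.Flatness

/-!
# Twisting sheaves are flat and `O(a) ⊗ O(b) ≅ O(a + b)`
-/

universe u

open CategoryTheory CategoryTheory.Limits AlgebraicGeometry TopologicalSpace Opposite MonoidalCategory
open Groth.Agent.KFlatLib

namespace Groth.Agent.PnCoh.Finite

variable {R A : Type u} [CommRing R] [CommRing A] [Algebra R A]
  {𝒜 : ℕ → Submodule R A} [GradedAlgebra 𝒜]

theorem mul_mem_twistAt {a b : ℤ} {x : ProjectiveSpectrum 𝒜} {q r : Twist.Loc 𝒜 x}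
    (hq : q ∈ Twist.twistAt 𝒜 a x) (hr : r ∈ Twist.twistAt 𝒜 b x) :
    q * r ∈ Twist.twistAt 𝒜 (a + b) x := by
  induction hq using Submodule.span_induction with
  | mem q hq =>
    induction hr using Submodule.span_induction with
    | mem r hr =>
      obtain ⟨i, j, p, s, hs, hij, rfl⟩ := hq
      obtain ⟨i', j', p', s', hs', hij', rfl⟩ := hr
      refine Submodule.subset_span ⟨i + i', j + j', ⟨p.1 * p'.1, SetLike.mul_mem_graded p.2 p'.2⟩,
        ⟨s.1 * s'.1, SetLike.mul_mem_graded s.2 s'.2⟩, mul_notMem hs hs', by push_cast; omega, ?_⟩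
      rw [Localization.mk_mul]
      rfl
    | zero => rw [mul_zero]; exact zero_mem _
    | add y z _ _ hy hz => rw [mul_add]; exact add_mem hy hz
    | smul c y _ hy => rw [mul_smul_comm]; exact Submodule.smul_mem _ c hy
  | zero => rw [zero_mul]; exact zero_mem _
  | add y z _ _ hy hz => rw [add_mul]; exact add_mem hy hz
  | smul c y _ hy => rw [smul_mul_assoc]; exact Submodule.smul_mem _ c hy

/-- The product of two sections of twisting sheaves. -/
noncomputable def mulSect (a b : ℤ) {U : (Opens (ProjectiveSpectrum.top 𝒜))ᵒᵖ}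
    (s : Twist.sectN (𝒜 := 𝒜) a U) (t : Twist.sectN (𝒜 := 𝒜) b U) :
    Twist.sectN (𝒜 := 𝒜) (a + b) U :=
  ⟨fun x => ⟨(s.1 x).1 * (t.1 x).1, mul_mem_twistAt (s.1 x).2 (t.1 x).2⟩, fun x => by
    obtain ⟨V, hxV, iV, i, j, p, q, nq, hij, w⟩ := s.2 x
    obtain ⟨V', hxV', iV', i', j', p', q', nq', hij', w'⟩ := t.2 x
    refine ⟨V ⊓ V', ⟨hxV, hxV'⟩, Opens.infLELeft _ _ ≫ iV, i + i', j + j',
      ⟨p.1 * p'.1, SetLike.mul_mem_graded p.2 p'.2⟩,
      ⟨q.1 * q'.1, SetLike.mul_mem_graded q.2 q'.2⟩,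
      fun y => mul_notMem (nq ⟨y.1, y.2.1⟩) (nq' ⟨y.1, y.2.2⟩), ?_, fun y => ?_⟩
    · rcases hij with h | h
      · rcases hij' with h' | h'
        · exact Or.inl (by push_cast; omega)
        · exact Or.inr (show p.1 * p'.1 = 0 by rw [h', mul_zero])
      · exact Or.inr (show p.1 * p'.1 = 0 by rw [h, zero_mul])
    · show (s.1 (iV ⟨y.1, y.2.1⟩)).1 * (t.1 (iV' ⟨y.1, y.2.2⟩)).1 = _
      rw [show (s.1 (iV ⟨y.1, y.2.1⟩)).1 = _ from w ⟨y.1, y.2.1⟩,
        show (t.1 (iV' ⟨y.1, y.2.2⟩)).1 = _ from w' ⟨y.1, y.2.2⟩, Localization.mk_mul]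
      rfl⟩

theorem mulSect_smul_left (a b : ℤ) {U : (Opens (ProjectiveSpectrum.top 𝒜))ᵒᵖ} (c : Twist.O U)
    (s : Twist.sectN (𝒜 := 𝒜) a U) (t : Twist.sectN (𝒜 := 𝒜) b U) :
    mulSect a b (c • s) t = c • mulSect a b s t := by
  refine Subtype.ext (funext fun x => Subtype.ext ?_)
  show (((c.1 x) • (s.1 x) : Twist.twistAt 𝒜 a x.1)).1 * (t.1 x).1 =
    ((c.1 x) • (⟨(s.1 x).1 * (t.1 x).1, _⟩ : Twist.twistAt 𝒜 (a + b) x.1) : Twist.twistAt 𝒜 (a + b) x.1).1
  rw [Submodule.coe_smul, Submodule.coe_smul, smul_mul_assoc]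

theorem mulSect_smul_right (a b : ℤ) {U : (Opens (ProjectiveSpectrum.top 𝒜))ᵒᵖ} (c : Twist.O U)
    (s : Twist.sectN (𝒜 := 𝒜) a U) (t : Twist.sectN (𝒜 := 𝒜) b U) :
    mulSect a b s (c • t) = c • mulSect a b s t := by
  refine Subtype.ext (funext fun x => Subtype.ext ?_)
  show (s.1 x).1 * (((c.1 x) • (t.1 x) : Twist.twistAt 𝒜 b x.1)).1 =
    ((c.1 x) • (⟨(s.1 x).1 * (t.1 x).1, _⟩ : Twist.twistAt 𝒜 (a + b) x.1) : Twist.twistAt 𝒜 (a + b) x.1).1
  rw [Submodule.coe_smul, Submodule.coe_smul, mul_smul_comm]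

/-- Multiplication of twisting sheaves. -/
noncomputable def mulPre (a b : ℤ) :
    DCoh.toP.obj (Twist.twist 𝒜 a) ⊗ DCoh.toP.obj (Twist.twist 𝒜 b) ⟶
      DCoh.toP.obj (Twist.twist 𝒜 (a + b)) where
  app U := ModuleCat.MonoidalCategory.tensorLift (fun s t => mulSect a b s t)
    (fun s s' t => Subtype.ext (funext fun x => Subtype.ext (add_mul (s.1 x).1 (s'.1 x).1 (t.1 x).1)))
    (fun c s t => mulSect_smul_left a b c s t)
    (fun s t t' => Subtype.ext (funext fun x => Subtype.ext (mul_add (s.1 x).1 (t.1 x).1 (t'.1 x).1)))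
    (fun c s t => mulSect_smul_right a b c s t)
  naturality {U V} i := ModuleCat.MonoidalCategory.tensor_ext fun s t => rfl

theorem mulPre_tm (a b : ℤ) {U : ((Proj 𝒜).Opens)ᵒᵖ} (s : (DCoh.toP.obj (Twist.twist 𝒜 a)).obj U)
    (t : (DCoh.toP.obj (Twist.twist 𝒜 b)).obj U) :
    (mulPre a b).app U (tm s t) = mulSect a b s t := rfl

variable {f : A} (hf : f ∈ 𝒜 1) {x : (Proj 𝒜)} (hx : x ∈ D 𝒜 f)

/-- The generator of the stalk of `O(d)`. -/
noncomputable def stalkGen (d : ℤ) : stalkMod x (DCoh.toP.obj (Twist.twist 𝒜 d)) :=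
  germP (DCoh.toP.obj (Twist.twist 𝒜 d)) (D 𝒜 f) hx (twPow hf d (nonVan_of_le (le_refl _)))

theorem stalkGen_eq (d : ℤ) (W : (Proj 𝒜).Opens) (hW : W ≤ D 𝒜 f) (hxW : x ∈ W) :
    stalkGen hf hx d =
      germP (DCoh.toP.obj (Twist.twist 𝒜 d)) W hxW (twPow hf d (nonVan_of_le hW)) :=
  (germP_res (P := DCoh.toP.obj (Twist.twist 𝒜 d)) (homOfLE hW) hxW _).symm

/-- The trivialization of a stalk of `O(d)`. -/
theorem stalkGen_bijective (d : ℤ) :
    Function.Bijective (LinearMap.toSpanSingleton ((Proj 𝒜).presheaf.stalk x) _ (stalkGen hf hx d)) := by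
  refine ⟨(injective_iff_map_eq_zero _).2 fun r hr => ?_, fun m => ?_⟩
  · obtain ⟨W₀, hxW₀, c₀, rfl⟩ := (Proj 𝒜).presheaf.exists_germ_eq r
    rw [LinearMap.toSpanSingleton_apply] at hr
    let W := W₀ ⊓ D 𝒜 f
    have hW : W ≤ D 𝒜 f := inf_le_right
    have hxW : x ∈ W := ⟨hxW₀, hx⟩
    let i : W ⟶ W₀ := homOfLE inf_le_left
    rw [← (Proj 𝒜).presheaf.germ_res_apply i x hxW, stalkGen_eq hf hx d W hW hxW,
      ← germP_smul] at hr
    obtain ⟨W', hxW', j, j', hjj⟩ := TopCat.Presheaf.germ_eq (C := AddCommGrpCat.{u})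
      (DCoh.toP.obj (Twist.twist 𝒜 d)).presheaf x hxW hxW _ 0
      (hr.trans (map_zero (germP (DCoh.toP.obj (Twist.twist 𝒜 d)) W hxW)).symm)
    have key : trivMap hf d (nonVan_of_le (j.le.trans hW))
        ((Proj 𝒜).presheaf.map j.op ((Proj 𝒜).presheaf.map i.op c₀)) = 0 :=
      hjj.trans (map_zero _)
    rw [← (Proj 𝒜).presheaf.germ_res_apply i x hxW,
      ← (Proj 𝒜).presheaf.germ_res_apply j x hxW']
    have := (trivMap_bijective hf d (nonVan_of_le (j.le.trans hW))).1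
      (key.trans (map_zero _).symm)
    exact (congrArg _ this).trans (map_zero _)
  · obtain ⟨W₀, hxW₀, s₀, rfl⟩ := exists_germP m
    let W := W₀ ⊓ D 𝒜 f
    have hW : W ≤ D 𝒜 f := inf_le_right
    have hxW : x ∈ W := ⟨hxW₀, hx⟩
    let i : W ⟶ W₀ := homOfLE inf_le_left
    obtain ⟨c, hc⟩ := (trivMap_bijective hf d (nonVan_of_le hW)).2
      (res (DCoh.toP.obj (Twist.twist 𝒜 d)) i s₀)
    refine ⟨(Proj 𝒜).presheaf.germ W x hxW c, ?_⟩
    rw [LinearMap.toSpanSingleton_apply, stalkGen_eq hf hx d W hW hxW, ← germP_smul,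
      ← germP_res i hxW s₀, ← hc]
    rfl

include hf hx in
theorem isFlatAt_twist (d : ℤ) :
    Module.Flat ((Proj 𝒜).presheaf.stalk x) (stalkMod x (DCoh.toP.obj (Twist.twist 𝒜 d))) :=
  Module.Flat.of_linearEquiv (LinearEquiv.ofBijective _ (stalkGen_bijective hf hx d)).symm

theorem twPow_mul (a b : ℤ) {U : (Proj 𝒜).Opens} (hU : NonVan (𝒜 := 𝒜) f U) :
    mulSect a b (twPow hf a hU) (twPow hf b hU) = twPow hf (a + b) hU := by
  refine Subtype.ext (funext fun y => Subtype.ext ?_)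
  show ((twPow hf a hU).1 y).1 * ((twPow hf b hU).1 y).1 = ((twPow hf (a + b) hU).1 y).1
  rw [twPow_apply, twPow_apply, twPow_apply, Localization.mk_mul, Localization.mk_eq_mk_iff,
    Localization.r_iff_exists]
  refine ⟨1, ?_⟩
  simp only [OneMemClass.coe_one, one_mul, Submonoid.coe_mul, ← pow_add]
  exact congrArg (f ^ ·) (by omega)

include hf hx in
theorem isIso_stalk_mulPre (a b : ℤ) : IsIso ((stalkP x).map (mulPre (𝒜 := 𝒜) a b)) := by
  rw [ConcreteCategory.isIso_iff_bijective]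
  let ea := LinearEquiv.ofBijective _ (stalkGen_bijective hf hx a)
  let eb := LinearEquiv.ofBijective _ (stalkGen_bijective hf hx b)
  let eab := LinearEquiv.ofBijective _ (stalkGen_bijective hf hx (a + b))
  let T := ((TensorProduct.congr ea eb).symm.trans (TensorProduct.lid _ _)).trans eab
  let L : (stalkMod x (DCoh.toP.obj (Twist.twist 𝒜 a) ⊗ DCoh.toP.obj (Twist.twist 𝒜 b)) : Type u)
      →ₗ[(Proj 𝒜).presheaf.stalk x] (stalkMod x (DCoh.toP.obj (Twist.twist 𝒜 (a + b))) : Type u) :=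
    ((stalkP x).map (mulPre a b)).hom
  have key : ∀ z, L (tensorStalkEquiv _ _ z) = T z := by
    intro z
    induction z using TensorProduct.induction_on with
    | zero => rw [map_zero, map_zero, map_zero]
    | add z z' hz hz' => rw [map_add, map_add, map_add, hz, hz']
    | tmul m n =>
      obtain ⟨r, rfl⟩ := ea.surjective m
      obtain ⟨s, rfl⟩ := eb.surjective n
      have hT : T (ea r ⊗ₜ eb s) = (r * s) • stalkGen hf hx (a + b) := by
        show eab (TensorProduct.lid _ _ ((TensorProduct.congr ea eb).symm (ea r ⊗ₜ eb s))) = _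
        rw [TensorProduct.congr_symm_tmul, LinearEquiv.symm_apply_apply,
          LinearEquiv.symm_apply_apply, TensorProduct.lid_tmul]
        rfl
      rw [hT]
      show L (tensorStalkEquiv _ _
        ((r • stalkGen hf hx a) ⊗ₜ[(Proj 𝒜).presheaf.stalk x] (s • stalkGen hf hx b))) = _
      rw [TensorProduct.smul_tmul_smul, map_smul, map_smul]
      refine congrArg ((r * s) • ·) ?_
      refine Eq.trans (congrArg _ (ofTensor_germ (D 𝒜 f) hx _ _)) ?_
      refine (stalkModMap_germ (mulPre a b) (D 𝒜 f) hx _).trans ?_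
      exact congrArg (germP (DCoh.toP.obj (Twist.twist 𝒜 (a + b))) (D 𝒜 f) hx)
        ((mulPre_tm a b _ _).trans (twPow_mul hf a b _))
  have e : ⇑L = T ∘ (tensorStalkEquiv _ _).symm := by
    funext z
    rw [Function.comp_apply, ← key, LinearEquiv.apply_symm_apply]
  show Function.Bijective ⇑L
  rw [e]
  exact T.bijective.comp (tensorStalkEquiv _ _).symm.bijective

variable {κ : Type*} (g : κ → A)

theorem isFlat_twist (hg : ∀ j, g j ∈ 𝒜 1) (hcov : ⨆ j, D 𝒜 (g j) = ⊤) (d : ℤ) :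
    FlatMod.IsFlat (Twist.twist 𝒜 d) := fun x => by
  obtain ⟨j, hj⟩ := Opens.mem_iSup.1 (hcov.ge (trivial : x ∈ (⊤ : (Proj 𝒜).Opens)))
  exact isFlatAt_twist (hg j) hj d

/-- The multiplication map of twisting sheaves. -/
noncomputable def mulHom (a b : ℤ) :
    (DCoh.tensorBi.obj (Twist.twist 𝒜 a)).obj (Twist.twist 𝒜 b) ⟶ Twist.twist 𝒜 (a + b) :=
  ((PresheafOfModules.sheafificationAdjunction (𝟙 (Proj 𝒜).ringCatSheaf.obj)).homEquiv _ _).symm
    (mulPre a b)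

theorem isIso_mulHom (hg : ∀ j, g j ∈ 𝒜 1) (hcov : ⨆ j, D 𝒜 (g j) = ⊤) (a b : ℤ) :
    IsIso (mulHom (𝒜 := 𝒜) a b) := by
  apply isIso_of_stalk
  intro x
  obtain ⟨j, hj⟩ := Opens.mem_iSup.1 (hcov.ge (trivial : x ∈ (⊤ : (Proj 𝒜).Opens)))
  have h : unitShP (DCoh.toP.obj (Twist.twist 𝒜 a) ⊗ DCoh.toP.obj (Twist.twist 𝒜 b)) ≫
      DCoh.toP.map (mulHom (𝒜 := 𝒜) a b) = mulPre a b :=
    ((PresheafOfModules.sheafificationAdjunction (𝟙 (Proj 𝒜).ringCatSheaf.obj)).homEquiv_unit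
      (f := mulHom a b)).symm.trans (Equiv.apply_symm_apply _ _)
  haveI : IsIso ((stalkP x).map (DCoh.toP.map (mulHom (𝒜 := 𝒜) a b))) :=
    @IsIso.of_isIso_fac_left _ _ _ _ _
      ((stalkP x).map (unitShP (DCoh.toP.obj (Twist.twist 𝒜 a) ⊗ DCoh.toP.obj (Twist.twist 𝒜 b))))
      _ ((stalkP x).map (mulPre a b)) (isIso_stalk_unitShP _) (isIso_stalk_mulPre (hg j) hj a b)
      (((stalkP x).map_comp _ _).symm.trans (congrArg (fun φ => (stalkP x).map φ) h))
  exact (NatIso.isIso_map_iff (stalkToPIso x) (mulHom (𝒜 := 𝒜) a b)).2 this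

/-- `O(a) ⊗ O(b) ≅ O(a + b)` when the degree one elements cover. -/
theorem twistBy_twist_iso (hg : ∀ j, g j ∈ 𝒜 1) (hcov : ⨆ j, D 𝒜 (g j) = ⊤) (a b : ℤ) :
    Nonempty (Twist.twistBy 𝒜 (Twist.twist 𝒜 a) b ≅ Twist.twist 𝒜 (a + b)) := by
  exact ⟨@asIso _ _ _ _ (mulHom a b) (isIso_mulHom g hg hcov a b)⟩

/-- Twisting is exact. -/
theorem shortExact_twistBy (hg : ∀ j, g j ∈ 𝒜 1) (hcov : ⨆ j, D 𝒜 (g j) = ⊤) (d : ℤ)
    {S : ShortComplex (Proj 𝒜).Modules} (hS : S.ShortExact) :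
    (S.map (DCoh.tensorBi.flip.obj (Twist.twist 𝒜 d))).ShortExact :=
  flatObj_of_isFlat (isFlat_twist g hg hcov d) S hS

end Groth.Agent.PnCoh.Finite
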