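import Groth.Agent.PnCoh.Finite.Projective
import Groth.Agent.PnCoh.Finite.TwistTensor

/-!
# Serre vanishing on `Proj` generated in degree one
-/

universe u

open CategoryTheory CategoryTheory.Limits AlgebraicGeometry TopologicalSpace Opposite
open CategoryTheory.Abelian

namespace Groth.Agent.PnCoh.Finite

attribute [local instance] Abelian.hasFiniteBiproducts

variable {X : Scheme.{u}}

theorem subsingleton_H_X₃ {Y : TopCat.{u}} {T : ShortComplex (CohTop.Ab Y)} (hT : T.ShortExact)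
    (n : ℕ) (h₂ : Subsingleton (CohTop.H T.X₂ n)) (h₁ : Subsingleton (CohTop.H T.X₁ (n + 1))) :
    Subsingleton (CohTop.H T.X₃ n) := by
  refine subsingleton_of_forall_eq 0 fun x => ?_
  obtain ⟨y, hy⟩ := Ext.covariant_sequence_exact₃ _ hT x rfl (h₁.elim _ _)
  rw [← hy, h₂.elim y 0]
  exact Ext.zero_comp _ _ _ _ _

theorem subsingleton_HH_X₃ {S : ShortComplex X.Modules} (hS : S.ShortExact) (n : ℕ)
    (h₂ : Subsingleton (Coh.HH X S.X₂ n)) (h₁ : Subsingleton (Coh.HH X S.X₁ (n + 1))) :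
    Subsingleton (Coh.HH X S.X₃ n) :=
  subsingleton_H_X₃ (Y := X.toPresheafedSpace.carrier) (T := S.map (QCoh.toAbFunctor X))
    (QCoh.toAb_shortExact hS) n h₂ h₁

theorem subsingleton_HH_of_decomposition {E : X.Modules} {ι : Type*} [Fintype ι]
    (T : ι → X.Modules) (p : ∀ j, E ⟶ T j) (q : ∀ j, T j ⟶ E) (h : ∑ j, p j ≫ q j = 𝟙 E) (n : ℕ)
    (hT : ∀ j, Subsingleton (Coh.HH X (T j) n)) : Subsingleton (Coh.HH X E n) := by
  classical
  refine subsingleton_of_forall_eq 0 fun x => ?_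
  have h1 : ∀ j, Sheaf.H.map ((QCoh.toAbFunctor X).map (p j ≫ q j)) n x = (0 : Coh.HH X E n) :=
    fun j => by
      refine (map_map (Y := X.toPresheafedSpace.carrier)
        ((QCoh.toAbFunctor X).map_comp (p j) (q j)).symm n x).symm.trans ?_
      exact (congrArg (Sheaf.H.map ((QCoh.toAbFunctor X).map (q j)) n)
        ((hT j).elim (Sheaf.H.map ((QCoh.toAbFunctor X).map (p j)) n x) 0)).trans (map_zero _)
  have h2 : ∀ (s : Finset ι),
      Sheaf.H.map ((QCoh.toAbFunctor X).map (∑ j ∈ s, p j ≫ q j)) n x = (0 : Coh.HH X E n) :=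
    fun s => by
      induction s using Finset.induction with
      | empty =>
        rw [Finset.sum_empty, Functor.map_zero]
        show ((Sheaf.functorH _ n).map 0).hom x = 0
        rw [Functor.map_zero]; rfl
      | insert a s ha ih =>
        rw [Finset.sum_insert ha, Functor.map_add, Sheaf.H.map_add_apply, h1, ih]
        exact add_zero _
  have h3 := h2 Finset.univ
  rw [h, CategoryTheory.Functor.map_id, Sheaf.H.map_id_apply] at h3
  exact h3

theorem isQCoh_of_retract {E B : X.Modules} (hB : Coh.IsQCoh B) (s : E ⟶ B) (r : B ⟶ E)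
    (h : s ≫ r = 𝟙 E) : Coh.IsQCoh E := by
  have w : s ≫ (𝟙 B - r ≫ s) = 0 := by
    rw [Preadditive.comp_sub, Category.comp_id, ← Category.assoc, h, Category.id_comp, sub_self]
  have hl : IsLimit (KernelFork.ofι s w) := by
    refine KernelFork.IsLimit.ofι s w (fun t _ => t ≫ r) (fun t ht => ?_) (fun t ht m hm => ?_)
    · rw [Preadditive.comp_sub, Category.comp_id, sub_eq_zero] at ht
      rw [Category.assoc, ← ht]
    · rw [← hm, Category.assoc, h, Category.comp_id]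
  exact (QCoh.isQCoh_iff_iso (hl.conePointUniqueUpToIso (kernelIsKernel (𝟙 B - r ≫ s)))).2
    (QCoh.isQCoh_kernel hB hB _)

theorem isQCoh_biproduct {β : Type u} [Fintype β] (T : β → X.Modules)
    (h : ∀ b, Coh.IsQCoh (T b)) : Coh.IsQCoh (⨁ T) :=
  (QCoh.isQCoh_iff_iso (biproduct.isoCoproduct T)).2
    (QCoh.isQCoh_colimit (Discrete.functor T) fun b => h b.as)

variable {R A : Type u} [CommRing R] [CommRing A] [Algebra R A]
  {𝒜 : ℕ → Submodule R A} [GradedAlgebra 𝒜] {κ : Type u} {f : κ → A}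

/-- Tensoring with `O(d)`. -/
noncomputable abbrev twistF (d : ℤ) : (Proj 𝒜).Modules ⥤ (Proj 𝒜).Modules :=
  DCoh.tensorBi.flip.obj (Twist.twist 𝒜 d)

/-- The data of an object split by finitely many twists, after twisting. -/
theorem exists_twisted_decomposition (hf : ∀ i, f i ∈ 𝒜 1) (hcov : ⨆ j, D 𝒜 (f j) = ⊤)
    {E : (Proj 𝒜).Modules} {ι : Type u} [Fintype ι] (e : ι → ℤ)
    (p : ∀ a, E ⟶ Twist.twist 𝒜 (e a)) (q : ∀ a, Twist.twist 𝒜 (e a) ⟶ E)
    (h : ∑ a, p a ≫ q a = 𝟙 E) (d : ℤ) :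
    ∃ (p' : ∀ a, (twistF d).obj E ⟶ Twist.twist 𝒜 (e a + d))
      (q' : ∀ a, Twist.twist 𝒜 (e a + d) ⟶ (twistF d).obj E),
      ∑ a, p' a ≫ q' a = 𝟙 ((twistF d).obj E) := by
  let φ' : ∀ a, (twistF d).obj (Twist.twist 𝒜 (e a)) ≅ Twist.twist 𝒜 (e a + d) := fun a =>
    (twistBy_twist_iso f hf hcov (e a) d).some
  haveI : (twistF (𝒜 := 𝒜) d).Additive := Functor.additive_of_preserves_binary_products _
  refine ⟨fun a => (twistF d).map (p a) ≫ (φ' a).hom, fun a => (φ' a).inv ≫ (twistF d).map (q a), ?_⟩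
  rw [← (twistF (𝒜 := 𝒜) d).map_id, ← h, (twistF (𝒜 := 𝒜) d).map_sum]
  refine Finset.sum_congr rfl fun a _ => ?_
  rw [Category.assoc, Iso.hom_inv_id_assoc, ← Functor.map_comp]

theorem isQCoh_twistF_of_decomposition (hf : ∀ i, f i ∈ 𝒜 1) (hcov : ⨆ j, D 𝒜 (f j) = ⊤)
    {E : (Proj 𝒜).Modules} {ι : Type u} [Fintype ι] (e : ι → ℤ)
    (p : ∀ a, E ⟶ Twist.twist 𝒜 (e a)) (q : ∀ a, Twist.twist 𝒜 (e a) ⟶ E)
    (h : ∑ a, p a ≫ q a = 𝟙 E) (d : ℤ) : Coh.IsQCoh ((twistF d).obj E) := by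
  classical
  obtain ⟨p', q', h'⟩ := exists_twisted_decomposition hf hcov e p q h d
  refine isQCoh_of_retract (isQCoh_biproduct (fun a => Twist.twist 𝒜 (e a + d))
    fun a => isQCoh_twist f hf hcov _) (biproduct.lift p') (biproduct.desc q') ?_
  refine (?_ : _ = ∑ a, p' a ≫ q' a).trans h'
  calc biproduct.lift p' ≫ biproduct.desc q'
      = biproduct.lift p' ≫ (∑ a, biproduct.π (fun a => Twist.twist 𝒜 (e a + d)) a ≫
          biproduct.ι (fun a => Twist.twist 𝒜 (e a + d)) a) ≫ biproduct.desc q' := by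
        rw [biproduct_total, Category.id_comp]
    _ = ∑ a, p' a ≫ q' a := by simp [Preadditive.comp_sum, Preadditive.sum_comp]

theorem isQCoh_twistF [Finite κ] (hf : ∀ i, f i ∈ 𝒜 1) (hcov : ⨆ j, D 𝒜 (f j) = ⊤)
    (hnoeth : ∀ j, IsNoetherianRing Γ(Proj 𝒜, D 𝒜 (f j))) {F : (Proj 𝒜).Modules} (hF : Good f F)
    (d : ℤ) : Coh.IsQCoh ((twistF d).obj F) := by
  obtain ⟨ι, _, e, S, p, q, hS, rfl, hK, -, hpq⟩ := exists_presentation hf hcov hnoeth hF
  obtain ⟨ι', _, e', S', p', q', hS', hS'₃, -, -, hpq'⟩ := exists_presentation hf hcov hnoeth hK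
  have hSd : (S.map (twistF d)).ShortExact := shortExact_twistBy f hf hcov d hS
  have hSd' : (S'.map (twistF d)).ShortExact := shortExact_twistBy f hf hcov d hS'
  let π : (twistF d).obj S'.X₂ ⟶ (twistF d).obj S.X₁ :=
    (twistF d).map S'.g ≫ eqToHom (congrArg (twistF d).obj hS'₃)
  haveI : Epi ((twistF d).map S'.g) := hSd'.epi_g
  haveI : Epi π := epi_comp _ _
  have hc := QCoh.isQCoh_cokernel (isQCoh_twistF_of_decomposition hf hcov e' p' q' hpq' d)
    (isQCoh_twistF_of_decomposition hf hcov e p q hpq d) (π ≫ (twistF d).map S.f)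
  exact (QCoh.isQCoh_iff_iso ((cokernelEpiComp π ((twistF d).map S.f)) ≪≫
    (cokernelIsCokernel _).coconePointUniqueUpToIso hSd.gIsCokernel)).1 hc

/-- Serre vanishing by descending induction. -/
theorem exists_vanishing [Finite κ] (hf : ∀ i, f i ∈ 𝒜 1) (hcov : ⨆ j, D 𝒜 (f j) = ⊤)
    (hnoeth : ∀ j, IsNoetherianRing Γ(Proj 𝒜, D 𝒜 (f j)))
    (N : ℕ) (hvan : ∀ M : (Proj 𝒜).Modules, Coh.IsQCoh M → ∀ i, N ≤ i →
      Subsingleton (Coh.HH (Proj 𝒜) M i))
    (htw : ∀ i, 0 < i → ∃ d₀ : ℤ, ∀ d, d₀ ≤ d →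
      Subsingleton (Coh.HH (Proj 𝒜) (Twist.twist 𝒜 d) i))
    (F : (Proj 𝒜).Modules) (hF : Good f F) (i : ℕ) (hi : 0 < i) :
    ∃ d₀ : ℤ, ∀ d, d₀ ≤ d → Subsingleton (Coh.HH (Proj 𝒜) (Twist.twistBy 𝒜 F d) i) := by
  suffices ∀ m i, 0 < i → N ≤ i + m → ∀ F : (Proj 𝒜).Modules, Good f F → ∃ d₀ : ℤ, ∀ d, d₀ ≤ d →
      Subsingleton (Coh.HH (Proj 𝒜) ((twistF d).obj F) i) from
    this N i hi (Nat.le_add_left _ _) F hF
  intro m
  induction m with
  | zero => exact fun i _ hi F hF => ⟨0, fun d _ => hvan _ (isQCoh_twistF hf hcov hnoeth hF d) i hi⟩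
  | succ m ih =>
    intro i hi hN F hF
    obtain ⟨ι, _, e, S, p, q, hS, rfl, hK, -, hpq⟩ := exists_presentation hf hcov hnoeth hF
    obtain ⟨d₁, hd₁⟩ := ih (i + 1) (Nat.succ_pos _) (by omega) S.X₁ hK
    obtain ⟨e₀, he₀⟩ := htw i hi
    refine ⟨max d₁ (e₀ + ∑ a, |e a|), fun d hd => ?_⟩
    have hd1 : d₁ ≤ d := le_trans (le_max_left _ _) hd
    have hd2 : e₀ + ∑ a, |e a| ≤ d := le_trans (le_max_right _ _) hd
    obtain ⟨p', q', h'⟩ := exists_twisted_decomposition hf hcov e p q hpq d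
    refine subsingleton_HH_X₃ (shortExact_twistBy f hf hcov d hS) i
      (subsingleton_HH_of_decomposition (fun a => Twist.twist 𝒜 (e a + d)) p' q' h' i
        fun a => he₀ _ ?_) (hd₁ d hd1)
    have h1 : |e a| ≤ ∑ b, |e b| :=
      Finset.single_le_sum (f := fun b => |e b|) (fun b _ => abs_nonneg _) (Finset.mem_univ a)
    have h2 := neg_abs_le (e a)
    omega

end Groth.Agent.PnCoh.Finite
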