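import Groth.Agent.PnCoh.Finite.TwistTensor
import Groth.Agent.PnCoh.TwistQCoh
import Groth.Prelude.Def_Pic

/-!
# `O(n)` is invertible and is the `n`-th tensor power of `O(1)`
-/

universe u

open CategoryTheory CategoryTheory.Limits AlgebraicGeometry TopologicalSpace Opposite MonoidalCategory
open Groth.Agent.KFlatLib

namespace Groth.Agent.PnCoh.Finite

variable {R A : Type u} [CommRing R] [CommRing A] [Algebra R A]
  {𝒜 : ℕ → Submodule R A} [GradedAlgebra 𝒜] {κ : Type*} (g : κ → A)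

theorem isInvertible_twist (hg : ∀ j, g j ∈ 𝒜 1) (hcov : ⨆ j, D 𝒜 (g j) = ⊤) (d : ℤ) :
    PicF.IsInvertible (Twist.twist 𝒜 d) := fun x => by
  obtain ⟨j, hj⟩ := Opens.mem_iSup.1 (hcov.ge (trivial : x ∈ (⊤ : (Proj 𝒜).Opens)))
  have hU : NonVan (𝒜 := 𝒜) (g j) (D 𝒜 (g j)) := fun y => y.2
  exact ⟨D 𝒜 (g j), hj, ⟨(@asIso _ _ _ _ _ (isIso_twTriv (hg j) d _ hU)).symm⟩⟩

/-- The section `1` of `O(0)`. -/
noncomputable def oneSect {U : Opens (ProjectiveSpectrum.top 𝒜)} :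
    Twist.sectN (𝒜 := 𝒜) 0 (op U) :=
  Twist.resN 0 (homOfLE (le_top : U ≤ ⊤)).op
    (Twist.globalOf 𝒜 (i := 0) ⟨1, SetLike.GradedOne.one_mem⟩)

/-- `O ⟶ O(0)`. -/
noncomputable def oneHom : Coh.structureModule (Proj 𝒜) ⟶ Twist.twist 𝒜 0 :=
  (SheafOfModules.unitHomEquiv _).symm ⟨fun U => oneSect (U := U.unop), fun {_ _} _ => rfl⟩

theorem twPow_zero {f : A} (hf : f ∈ 𝒜 1) {U : (Proj 𝒜).Opens} (hU : NonVan (𝒜 := 𝒜) f U) :
    twPow hf 0 hU = oneSect (U := U) := by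
  refine Subtype.ext (funext fun x => Subtype.ext ?_)
  show Localization.mk (f ^ (0 : ℤ).toNat) _ = Localization.mk (1 : A) _
  rw [Localization.mk_eq_mk_iff, Localization.r_iff_exists]
  exact ⟨1, by simp⟩

theorem isIso_oneHom (hg : ∀ j, g j ∈ 𝒜 1) (hcov : ⨆ j, D 𝒜 (g j) = ⊤) :
    IsIso (oneHom (𝒜 := 𝒜)) := by
  apply isIso_of_stalk
  intro x
  obtain ⟨j, hj⟩ := Opens.mem_iSup.1 (hcov.ge (trivial : x ∈ (⊤ : (Proj 𝒜).Opens)))
  refine (NatIso.isIso_map_iff (stalkToPIso x) (oneHom (𝒜 := 𝒜))).2 ?_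
  rw [ConcreteCategory.isIso_iff_bijective]
  have hgen := stalkGen_bijective (hg j) hj (0 : ℤ)
  have key : ∀ (W : (Proj 𝒜).Opens) (hW : x ∈ W) (hWD : W ≤ D 𝒜 (g j)) (c : Γ(Proj 𝒜, W)),
      stalkModMap (DCoh.toP.map (oneHom (𝒜 := 𝒜)))
        (germP (DCoh.toP.obj (Coh.structureModule (Proj 𝒜))) W hW c) =
      LinearMap.toSpanSingleton _ _ (stalkGen (hg j) hj (0 : ℤ))
        ((Proj 𝒜).presheaf.germ W x hW c) := fun W hW hWD c => by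
    rw [stalkModMap_germ, LinearMap.toSpanSingleton_apply, stalkGen_eq (hg j) hj 0 W hWD hW,
      ← germP_smul, twPow_zero]
    rfl
  refine ⟨(injective_iff_map_eq_zero _).2 fun m hm => ?_, fun y => ?_⟩
  · obtain ⟨W₀, hW₀, c₀, rfl⟩ :=
      exists_germP (P := DCoh.toP.obj (Coh.structureModule (Proj 𝒜))) m
    let W := W₀ ⊓ D 𝒜 (g j)
    have hxW : x ∈ W := ⟨hW₀, hj⟩
    let i : W ⟶ W₀ := homOfLE inf_le_left
    rw [← germP_res i hxW] at hm ⊢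
    have h0 : (Proj 𝒜).presheaf.germ W x hxW ((Proj 𝒜).presheaf.map i.op c₀) = 0 :=
      hgen.1 (((key W hxW inf_le_right _).symm.trans hm).trans (map_zero _).symm)
    obtain ⟨W', hW', k, k', hk⟩ := (Proj 𝒜).presheaf.germ_eq x hxW hxW _ 0
      (h0.trans (map_zero _).symm)
    rw [← germP_res k hW']
    exact (congrArg (germP (DCoh.toP.obj (Coh.structureModule (Proj 𝒜))) W' hW')
      (hk.trans (map_zero _))).trans (map_zero _)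
  · obtain ⟨r, rfl⟩ := hgen.2 y
    obtain ⟨W₀, hW₀, c₀, rfl⟩ := (Proj 𝒜).presheaf.exists_germ_eq r
    let W := W₀ ⊓ D 𝒜 (g j)
    have hxW : x ∈ W := ⟨hW₀, hj⟩
    let i : W ⟶ W₀ := homOfLE inf_le_left
    refine ⟨germP (DCoh.toP.obj (Coh.structureModule (Proj 𝒜))) W hxW
      ((Proj 𝒜).presheaf.map i.op c₀), ?_⟩
    refine (key W hxW inf_le_right _).trans ?_
    rw [(Proj 𝒜).presheaf.germ_res_apply]

theorem twist_tensor_iso (hg : ∀ j, g j ∈ 𝒜 1) (hcov : ⨆ j, D 𝒜 (g j) = ⊤) (a b : ℤ) :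
    Nonempty (CohB1.tensorMod (Twist.twist 𝒜 a) (Twist.twist 𝒜 b) ≅ Twist.twist 𝒜 (a + b)) :=
  twistBy_twist_iso g hg hcov a b

theorem twist_tensorPow_iso (hg : ∀ j, g j ∈ 𝒜 1) (hcov : ⨆ j, D 𝒜 (g j) = ⊤) (n : ℕ) :
    Nonempty (Twist.twist 𝒜 (n : ℤ) ≅ CohB1.tensorPow (Twist.twist 𝒜 1) n) := by
  induction n with
  | zero => exact ⟨(@asIso _ _ _ _ _ (isIso_oneHom g hg hcov)).symm⟩
  | succ n ih =>
    obtain ⟨e⟩ := ih
    obtain ⟨e'⟩ := twist_tensor_iso g hg hcov (n : ℤ) 1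
    exact ⟨e'.symm ≪≫ (DCoh.tensorBi.mapIso e).app (Twist.twist 𝒜 1)⟩

theorem invertible_package (hg : ∀ j, g j ∈ 𝒜 1) (hcov : ⨆ j, D 𝒜 (g j) = ⊤) :
    (∀ n : ℤ, PicF.IsInvertible (Twist.twist 𝒜 n)) ∧
      (∀ m n : ℤ, Nonempty (CohB1.tensorMod (Twist.twist 𝒜 m) (Twist.twist 𝒜 n) ≅
        Twist.twist 𝒜 (m + n))) ∧
      ∀ n : ℕ, Nonempty (Twist.twist 𝒜 (n : ℤ) ≅ CohB1.tensorPow (Twist.twist 𝒜 1) n) :=
  ⟨isInvertible_twist g hg hcov, twist_tensor_iso g hg hcov, twist_tensorPow_iso g hg hcov⟩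

end Groth.Agent.PnCoh.Finite
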