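import Groth.Agent.PnCoh.TwistTriv
import Groth.Agent.QCoh.Qcqs

/-!
# Morphisms `O(-k) ⟶ F` from sections on a basic open of degree one
-/

universe u

open CategoryTheory AlgebraicGeometry TopologicalSpace Opposite

namespace Groth.Agent.PnCoh.Finite

variable {R A : Type u} [CommRing R] [CommRing A] [Algebra R A]
  {𝒜 : ℕ → Submodule R A} [GradedAlgebra 𝒜] {κ : Type u} {f : κ → A}

/-- The basic open of `f j`. -/
noncomputable abbrev D (𝒜 : ℕ → Submodule R A) [GradedAlgebra 𝒜] (a : A) : (Proj 𝒜).Opens :=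
  Proj.basicOpen 𝒜 a

theorem nonVan_of_le {a : A} {V : (Proj 𝒜).Opens} (h : V ≤ D 𝒜 a) : NonVan (𝒜 := 𝒜) a V :=
  fun x => h x.2

/-- The function `b / a` on `D+(a)`. -/
noncomputable def ratio {a b : A} (ha : a ∈ 𝒜 1) (hb : b ∈ 𝒜 1) : Γ(Proj 𝒜, D 𝒜 a) :=
  ⟨fun x => HomogeneousLocalization.mk ⟨1, ⟨b, hb⟩, ⟨a, ha⟩, x.2⟩,
    fun x => ⟨D 𝒜 a, x.2, 𝟙 _, 1, ⟨b, hb⟩, ⟨a, ha⟩, fun y => y.2, fun _ => rfl⟩⟩

theorem ratio_val {a b : A} (ha : a ∈ 𝒜 1) (hb : b ∈ 𝒜 1) (x : D 𝒜 a) :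
    ((ratio ha hb).1 x).val = Localization.mk b ⟨a, x.2⟩ := rfl

theorem ratio_self {a : A} (ha : a ∈ 𝒜 1) : ratio ha ha = 1 := by
  refine Subtype.ext (funext fun x => HomogeneousLocalization.val_injective _ ?_)
  haveI := x.1.isPrime
  refine (ratio_val ha ha x).trans ?_
  exact (Localization.mk_self (⟨a, x.2⟩ : x.1.asHomogeneousIdeal.toIdeal.primeCompl)).trans
    HomogeneousLocalization.val_one.symm

theorem basicOpen_ratio {a b : A} (ha : a ∈ 𝒜 1) (hb : b ∈ 𝒜 1) :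
    (Proj 𝒜).basicOpen (ratio ha hb) = D 𝒜 a ⊓ D 𝒜 b := by
  refine Opens.ext (Set.ext fun x => ?_)
  by_cases hx : x ∈ D 𝒜 a
  swap
  · exact ⟨fun h => absurd ((Proj 𝒜).basicOpen_le _ h) hx, fun h => absurd h.1 hx⟩
  have key : x ∈ (Proj 𝒜).basicOpen (ratio ha hb) ↔ x ∈ D 𝒜 b := by
    rw [Scheme.mem_basicOpen _ _ _ hx]
    refine (isUnit_map_iff (Proj.stalkIso 𝒜 x).commRingCatIsoToRingEquiv _).symm.trans ?_
    rw [show (Proj.stalkIso 𝒜 x).commRingCatIsoToRingEquiv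
      ((Proj 𝒜).presheaf.germ (D 𝒜 a) x hx (ratio ha hb)) = (ratio ha hb).1 ⟨x, hx⟩ from
        Proj.stalkIso'_germ 𝒜 _ x hx (ratio ha hb),
      ← HomogeneousLocalization.isUnit_iff_isUnit_val]
    haveI := (x : ProjectiveSpectrum 𝒜).isPrime
    refine (iff_of_eq (congrArg IsUnit (ratio_val ha hb ⟨x, hx⟩))).trans ?_
    rw [Localization.mk_eq_mk']
    exact IsLocalization.AtPrime.isUnit_mk'_iff (Localization.AtPrime x.asHomogeneousIdeal.toIdeal)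
      x.asHomogeneousIdeal.toIdeal b ⟨a, hx⟩
  exact ⟨fun h => ⟨hx, key.1 h⟩, fun h => key.2 h.2⟩

/-- Restriction of `ratio`. -/
noncomputable def rr {a b : A} (ha : a ∈ 𝒜 1) (hb : b ∈ 𝒜 1) {V : (Proj 𝒜).Opens}
    (h : V ≤ D 𝒜 a) : Γ(Proj 𝒜, V) :=
  (Proj 𝒜).presheaf.map (homOfLE h).op (ratio ha hb)

theorem rr_val {a b : A} (ha : a ∈ 𝒜 1) (hb : b ∈ 𝒜 1) {V : (Proj 𝒜).Opens} (h : V ≤ D 𝒜 a)
    (x : V) : ((rr ha hb h).1 x).val = Localization.mk b ⟨a, h x.2⟩ := rfl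

theorem rr_mul_rr {a b c : A} (ha : a ∈ 𝒜 1) (hb : b ∈ 𝒜 1) (hc : c ∈ 𝒜 1) {V : (Proj 𝒜).Opens}
    (h : V ≤ D 𝒜 a) (h' : V ≤ D 𝒜 b) : rr ha hb h * rr hb hc h' = rr ha hc h := by
  refine Subtype.ext (funext fun x => HomogeneousLocalization.val_injective _ ?_)
  show ((rr ha hb h).1 x * (rr hb hc h').1 x).val = _
  refine (HomogeneousLocalization.val_mul _ _).trans ?_
  refine ((congrArg₂ (· * ·) (rr_val ha hb h x) (rr_val hb hc h' x)).trans ?_).trans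
    (rr_val ha hc h x).symm
  rw [Localization.mk_mul, Localization.mk_eq_mk_iff, Localization.r_iff_exists]
  exact ⟨1, by simp; ring⟩

theorem rr_res {a b : A} (ha : a ∈ 𝒜 1) (hb : b ∈ 𝒜 1) {V W : (Proj 𝒜).Opens} (h : V ≤ D 𝒜 a)
    (i : W ⟶ V) : (Proj 𝒜).presheaf.map i.op (rr ha hb h) = rr ha hb ((leOfHom i).trans h) :=
  Subtype.ext (funext fun _ => rfl)

/-- The inverse of the trivialization, as a function. -/
noncomputable def coord {a : A} (ha : a ∈ 𝒜 1) (d : ℤ) {V : (Proj 𝒜).Opens} (h : V ≤ D 𝒜 a)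
    (τ : Γ(Twist.twist 𝒜 d, V)) : Γ(Proj 𝒜, V) :=
  (triv ha d (nonVan_of_le h)).symm τ

theorem coord_res {a : A} (ha : a ∈ 𝒜 1) (d : ℤ) {V W : (Proj 𝒜).Opens} (h : V ≤ D 𝒜 a)
    (i : W ⟶ V) (τ : Γ(Twist.twist 𝒜 d, V)) :
    coord ha d ((leOfHom i).trans h) ((Twist.twist 𝒜 d).presheaf.map i.op τ) =
      (Proj 𝒜).presheaf.map i.op (coord ha d h τ) := by
  apply (LinearEquiv.symm_apply_eq _).2
  refine Eq.trans ?_ (triv_res ha d (nonVan_of_le h) _ i (coord ha d h τ)).symm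
  exact (congrArg (Twist.resN d i.op)
    ((triv ha d (nonVan_of_le h)).apply_symm_apply τ)).symm

theorem coord_add {a : A} (ha : a ∈ 𝒜 1) (d : ℤ) {V : (Proj 𝒜).Opens} (h : V ≤ D 𝒜 a)
    (σ τ : Γ(Twist.twist 𝒜 d, V)) : coord ha d h (σ + τ) = coord ha d h σ + coord ha d h τ :=
  map_add (triv ha d (nonVan_of_le h)).symm σ τ

theorem coord_smul {a : A} (ha : a ∈ 𝒜 1) (d : ℤ) {V : (Proj 𝒜).Opens} (h : V ≤ D 𝒜 a)
    (r : Γ(Proj 𝒜, V)) (τ : Γ(Twist.twist 𝒜 d, V)) :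
    coord ha d h (r • τ) = r * coord ha d h τ :=
  (triv ha d (nonVan_of_le h)).symm.map_smul r τ

theorem twPow_change {a b : A} {x : ProjectiveSpectrum 𝒜} (ha : a ∉ x.asHomogeneousIdeal)
    (hb : b ∉ x.asHomogeneousIdeal) (k : ℕ) :
    (Localization.mk (b ^ (-(k : ℤ)).toNat) ⟨b ^ (-(-(k : ℤ))).toNat, pow_notMem hb _⟩ :
        Twist.Loc 𝒜 x) =
      Localization.mk a ⟨b, hb⟩ ^ k *
        Localization.mk (a ^ (-(k : ℤ)).toNat) ⟨a ^ (-(-(k : ℤ))).toNat, pow_notMem ha _⟩ := by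
  rw [Localization.mk_pow, Localization.mk_mul, Localization.mk_eq_mk_iff, Localization.r_iff_exists]
  exact ⟨1, by simp [mul_comm]⟩

theorem coord_change {a b : A} (ha : a ∈ 𝒜 1) (hb : b ∈ 𝒜 1) (k : ℕ) {V : (Proj 𝒜).Opens}
    (h : V ≤ D 𝒜 a) (h' : V ≤ D 𝒜 b) (τ : Γ(Twist.twist 𝒜 (-(k : ℤ)), V)) :
    coord ha (-(k : ℤ)) h τ = rr hb ha h' ^ k * coord hb (-(k : ℤ)) h' τ := by
  apply (LinearEquiv.symm_apply_eq _).2
  refine ((triv hb (-(k : ℤ)) (nonVan_of_le h')).apply_symm_apply τ).symm.trans ?_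
  refine Subtype.ext (funext fun x => Subtype.ext ?_)
  refine (trivMap_apply hb _ _ _ x).trans (Eq.trans ?_ (trivMap_apply ha _ _ _ x).symm)
  have e : ((((rr hb ha h').1 x) ^ k * (coord hb (-(k : ℤ)) h' τ).1 x)).val =
      Localization.mk a ⟨b, h' x.2⟩ ^ k * ((coord hb (-(k : ℤ)) h' τ).1 x).val :=
    (HomogeneousLocalization.val_mul _ _).trans (congrArg (· * _)
      ((HomogeneousLocalization.val_pow _ _).trans (congrArg (· ^ k) (rr_val hb ha h' x))))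
  refine Eq.trans ?_ (congrArg (· * _) e).symm
  refine (congrArg (_ * ·) (twPow_change (h x.2) (h' x.2) k)).trans ?_
  exact (mul_left_comm _ _ _).trans (mul_assoc _ _ _).symm

section

variable (hf : ∀ i, f i ∈ 𝒜 1) {F : (Proj 𝒜).Modules}

/-- The compatible family `(f i / f j) ^ k • s` extended to every chart. -/
theorem exists_family [Finite κ] (hF : Coh.IsQCoh F)
    (haff : ∀ i, IsAffineOpen (D 𝒜 (f i))) (haff₂ : ∀ i j, IsAffineOpen (D 𝒜 (f i) ⊓ D 𝒜 (f j)))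
    (i : κ) (s : Γ(F, D 𝒜 (f i))) :
    ∃ (k : ℕ) (t : ∀ j, Γ(F, D 𝒜 (f j))), t i = s ∧ ∀ j l,
      F.presheaf.map (homOfLE (inf_le_left : D 𝒜 (f j) ⊓ D 𝒜 (f l) ≤ D 𝒜 (f j))).op (t j) =
        rr (hf j) (hf l) (inf_le_left : D 𝒜 (f j) ⊓ D 𝒜 (f l) ≤ D 𝒜 (f j)) ^ k •
          F.presheaf.map (homOfLE (inf_le_right : D 𝒜 (f j) ⊓ D 𝒜 (f l) ≤ D 𝒜 (f l))).op (t l) := by
  classical
  have := Fintype.ofFinite κ
  have key : ∀ j, ∃ n, ∀ N, n ≤ N → ∃ t : Γ(F, D 𝒜 (f j)),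
      F.presheaf.map (homOfLE (inf_le_left : D 𝒜 (f j) ⊓ D 𝒜 (f i) ≤ D 𝒜 (f j))).op t =
        rr (hf j) (hf i) (inf_le_left : D 𝒜 (f j) ⊓ D 𝒜 (f i) ≤ D 𝒜 (f j)) ^ N •
          F.presheaf.map (homOfLE (inf_le_right : D 𝒜 (f j) ⊓ D 𝒜 (f i) ≤ D 𝒜 (f i))).op s := by
    intro j
    have gen : ∀ (W : (Proj 𝒜).Opens) (hW : (Proj 𝒜).basicOpen (ratio (hf j) (hf i)) = W)
        (h : W ≤ D 𝒜 (f j)) (s' : Γ(F, W)), ∃ (n : ℕ) (t : Γ(F, D 𝒜 (f j))),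
        F.presheaf.map (homOfLE h).op t = rr (hf j) (hf i) h ^ n • s' := by
      rintro _ rfl h s'
      exact QCoh.exists_pow_smul_eq_map hF (haff j) _ s'
    obtain ⟨n, t, ht⟩ := gen _ (basicOpen_ratio _ _) inf_le_left
      (F.presheaf.map (homOfLE (inf_le_right : D 𝒜 (f j) ⊓ D 𝒜 (f i) ≤ D 𝒜 (f i))).op s)
    refine ⟨n, fun N hN => ⟨ratio (hf j) (hf i) ^ (N - n) • t, ?_⟩⟩
    rw [QCoh.map_smul', map_pow, ht, ← mul_smul]
    exact congrArg (· • _) (pow_sub_mul_pow (rr (hf j) (hf i) (inf_le_left : D 𝒜 (f j) ⊓ D 𝒜 (f i) ≤ D 𝒜 (f j))) hN)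
  choose n hn using key
  let N := ∑ j, n j
  choose t₀ ht₀ using fun j => hn j N (Finset.single_le_sum (fun _ _ => Nat.zero_le _) (Finset.mem_univ j))
  have hti : t₀ i = s := by
    have gen : ∀ (W : (Proj 𝒜).Opens) (hW : W = D 𝒜 (f i)) (h h' : W ≤ D 𝒜 (f i)),
        F.presheaf.map (homOfLE h).op (t₀ i) =
          rr (hf i) (hf i) h ^ N • F.presheaf.map (homOfLE h').op s → t₀ i = s := by
      rintro _ rfl h h' e
      rwa [rr, ratio_self, map_one, one_pow, one_smul, QCoh.map_id', QCoh.map_id'] at e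
    exact gen _ (inf_idem _) _ _ (ht₀ i)
  have hd : ∀ p : κ × κ, ∃ m : ℕ, rr (hf p.1) (hf i) (inf_le_left : D 𝒜 (f p.1) ⊓ D 𝒜 (f p.2) ≤ _) ^ m •
      (rr (hf p.1) (hf p.2) (inf_le_left : D 𝒜 (f p.1) ⊓ D 𝒜 (f p.2) ≤ _) ^ N •
          F.presheaf.map (homOfLE (inf_le_right : D 𝒜 (f p.1) ⊓ D 𝒜 (f p.2) ≤ _)).op (t₀ p.2) -
        F.presheaf.map (homOfLE (inf_le_left : D 𝒜 (f p.1) ⊓ D 𝒜 (f p.2) ≤ _)).op (t₀ p.1)) = 0 := by
    rintro ⟨j, l⟩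
    refine QCoh.exists_pow_smul_eq_zero hF (haff₂ j l) _ _ ?_
    set V := (Proj 𝒜).basicOpen (rr (hf j) (hf i) (inf_le_left : D 𝒜 (f j) ⊓ D 𝒜 (f l) ≤ _)) with hV
    have hVjl : V ≤ D 𝒜 (f j) ⊓ D 𝒜 (f l) := (Proj 𝒜).basicOpen_le _
    have hVi : V ≤ D 𝒜 (f i) := by
      rw [hV, rr, QCoh.basicOpen_res_inf, basicOpen_ratio]
      exact inf_le_right.trans inf_le_right
    have e : ∀ m (h : V ≤ D 𝒜 (f m)), F.presheaf.map (homOfLE h).op (t₀ m) =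
        rr (hf m) (hf i) h ^ N • F.presheaf.map (homOfLE hVi).op s := by
      intro m h
      have e0 := congrArg (F.presheaf.map (homOfLE (le_inf h hVi)).op) (ht₀ m)
      rw [QCoh.map_map, QCoh.map_smul', map_pow, rr_res, QCoh.map_map] at e0
      exact e0
    rw [map_sub, sub_eq_zero, QCoh.map_smul', map_pow, rr_res, QCoh.map_map, QCoh.map_map]
    refine (congrArg (rr (hf j) (hf l) _ ^ N • ·) (e l (hVjl.trans inf_le_right))).trans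
      (Eq.trans ?_ (e j (hVjl.trans inf_le_left)).symm)
    rw [← mul_smul, ← mul_pow, rr_mul_rr]
  choose m hm using hd
  let M := ∑ p, m p
  refine ⟨N + M, fun j => ratio (hf j) (hf i) ^ M • t₀ j, ?_, fun j l => ?_⟩
  · simp only [hti, ratio_self, one_pow, one_smul]
  · obtain ⟨d, hd⟩ := Nat.exists_eq_add_of_le
      (Finset.single_le_sum (f := m) (fun _ _ => Nat.zero_le _) (Finset.mem_univ (j, l)))
    have e := congrArg (rr (hf j) (hf i) (inf_le_left : D 𝒜 (f j) ⊓ D 𝒜 (f l) ≤ _) ^ d • ·) (hm (j, l))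
    simp only [smul_zero, ← mul_smul, ← pow_add, ← mul_assoc, smul_sub, sub_eq_zero] at e
    rw [show d + m (j, l) = M by omega] at e
    rw [QCoh.map_smul', QCoh.map_smul', map_pow, map_pow]
    refine e.symm.trans ?_
    rw [← mul_smul]
    refine congrArg (· • _) ?_
    show rr (hf j) (hf i) _ ^ M * rr (hf j) (hf l) _ ^ N =
      rr (hf j) (hf l) _ ^ (N + M) * rr (hf l) (hf i) inf_le_right ^ M
    rw [pow_add, mul_assoc, ← mul_pow, rr_mul_rr, mul_comm]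

end

end Groth.Agent.PnCoh.Finite
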