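import Groth.Agent.PnCoh.Finite.ProjSpace
import Groth.Agent.PnCoh.PushNat
import Groth.Agent.S0019

/-!
# Finiteness of cohomology on closed subschemes of `P^n`
-/

universe u

open CategoryTheory AlgebraicGeometry

namespace Groth.Agent.PnCoh.Finite

theorem isLocallyNoetherian_projSpace (n : ℕ) (A : Type u) [CommRing A] [IsNoetherianRing A] :
    IsLocallyNoetherian (CohB1.ProjSpace n A) := by
  haveI : IsNoetherian (Proj (CohB1.polyGrading n A)) := Proj16.isNoetherian_proj _
  exact inferInstanceAs (IsLocallyNoetherian (Proj (CohB1.polyGrading n A)))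

theorem closedImm_finite_HH (n : ℕ) (A : Type u) [CommRing A] [IsNoetherianRing A]
    {X : Scheme.{u}} [X.Over (Spec (CommRingCat.of A))] (i : X ⟶ CohB1.ProjSpace n A)
    [IsClosedImmersion i] (hi : i ≫ (CohB1.ProjSpace n A ↘ Spec (CommRingCat.of A)) =
      X ↘ Spec (CommRingCat.of A)) (M : X.Modules) (hM : Coh.IsCoh M) (q : ℕ) :
    Module.Finite A (Coh.HH X M q) := by
  haveI := isLocallyNoetherian_projSpace n A
  obtain ⟨e⟩ := exists_linearEquiv_push A i hi hM.1 q
  haveI := projSpace_finite_HH n A _ (S0019.result i M hM) q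
  exact Module.Finite.equiv e.symm

end Groth.Agent.PnCoh.Finite
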