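import Groth.Agent.PnCoh.Finite.Projective
import Groth.Agent.Proj16.Points
import Groth.Agent.S0843
import Groth.Agent.S0844
import Groth.Agent.S0845
import Mathlib.RingTheory.MvPolynomial.Homogeneous

/-!
# Finiteness of the cohomology of coherent modules on `P^n`
-/

universe u

open CategoryTheory AlgebraicGeometry MvPolynomial

noncomputable section

namespace Groth.Agent.PnCoh.Finite

theorem finite_twist_HH (n : ℕ) (R : Type u) [CommRing R] [IsNoetherianRing R] (d : ℤ) (q : ℕ) :
    Module.Finite R (Coh.HH (CohB1.ProjSpace n R) (Twist.twistProjSpace n R d) q) := by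
  have hfin : ∀ k, Module.Finite R (homogeneousSubmodule (Fin (n + 1)) R k) := fun k =>
    Module.Finite.iff_fg.2 (homogeneousSubmodule_fg (Fin (n + 1)) R k)
  by_cases h₀ : q = 0 ∧ 0 ≤ d
  · obtain ⟨rfl, hd⟩ := h₀
    lift d to ℕ using hd
    obtain ⟨e⟩ := S0843.result R n d
    haveI := hfin d
    exact Module.Finite.equiv e.symm
  by_cases hn : q = n ∧ d ≤ -((n : ℤ) + 1)
  · obtain ⟨rfl, hd⟩ := hn
    obtain ⟨k, rfl⟩ : ∃ k : ℕ, d = -((q : ℤ) + 1 + k) :=
      ⟨(-((q : ℤ) + 1) - d).toNat, by omega⟩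
    obtain ⟨e⟩ := S0845.result R q k
    haveI := hfin k
    exact Module.Finite.equiv e.symm
  haveI := S0844.result R n d q h₀ hn
  infer_instance

theorem projSpace_finite_HH (n : ℕ) (R : Type u) [CommRing R] [IsNoetherianRing R]
    (M : (CohB1.ProjSpace n R).Modules) (hM : Coh.IsCoh M) (i : ℕ) :
    Module.Finite R (Coh.HH (CohB1.ProjSpace n R) M i) := by
  let f : ULift.{u} (Fin (n + 1)) → MvPolynomial (Fin (n + 1)) R := fun j => X j.down
  have hf : ∀ j, f j ∈ CohB1.polyGrading n R 1 := fun j => isHomogeneous_X R j.down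
  have hcov : ⨆ j, D (CohB1.polyGrading n R) (f j) = ⊤ := by
    refine top_le_iff.1 ?_
    refine le_trans (iSup_mOpen_single (ι := Fin (n + 1)) (R := R)).ge ?_
    refine iSup_le fun j => ?_
    exact le_iSup_of_le (ULift.up j) le_rfl
  haveI hP : IsNoetherian (Proj (CohB1.polyGrading n R)) := Proj16.isNoetherian_proj _
  have hnoeth : ∀ j, IsNoetherianRing
      Γ(Proj (CohB1.polyGrading n R), D (CohB1.polyGrading n R) (f j)) := fun j =>
    IsLocallyNoetherian.component_noetherian ⟨_, isAffineOpen_D hf j⟩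
  letI : (Proj (CohB1.polyGrading n R)).Over (Spec (CommRingCat.of R)) :=
    inferInstanceAs ((CohB1.ProjSpace n R).Over (Spec (CommRingCat.of R)))
  exact finite_HH R hf hcov hnoeth (n + 1)
    (fun N hN q hq => by
      haveI := hN
      exact QCoh.HH_subsingleton_of_cover (X := Proj (CohB1.polyGrading n R)) (n + 1)
        (fun j => D (CohB1.polyGrading n R) (f (ULift.up j)))
        (fun j => isAffineOpen_D hf _)
        (top_le_iff.1 (hcov.ge.trans (iSup_le fun j => le_iSup_of_le j.down le_rfl)))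
        (fun V W hV hW => IsAffineOpen.inf hV hW) hN q hq)
    (finite_twist_HH n R) M (good_of_isCoh hf hM) i

end Groth.Agent.PnCoh.Finite
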