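import Groth.Agent.PnCoh.Finite.HomTwist

/-!
# The morphism `O(-k) ⟶ F` of a compatible family
-/

universe u

open CategoryTheory AlgebraicGeometry TopologicalSpace Opposite

namespace Groth.Agent.PnCoh.Finite

variable {R A : Type u} [CommRing R] [CommRing A] [Algebra R A]
  {𝒜 : ℕ → Submodule R A} [GradedAlgebra 𝒜] {κ : Type u} {f : κ → A} (hf : ∀ i, f i ∈ 𝒜 1)
  {F : (Proj 𝒜).Modules} (k : ℕ) (t : ∀ j, Γ(F, D 𝒜 (f j)))

/-- The value on one chart. -/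
noncomputable def locApp (j : κ) (W : (Proj 𝒜).Opens) (h : W ≤ D 𝒜 (f j))
    (τ : Γ(Twist.twist 𝒜 (-(k : ℤ)), W)) : Γ(F, W) :=
  coord (hf j) (-(k : ℤ)) h τ • F.presheaf.map (homOfLE h).op (t j)

theorem locApp_res (j : κ) {V W : (Proj 𝒜).Opens} (h : V ≤ D 𝒜 (f j)) (i : W ⟶ V)
    (τ : Γ(Twist.twist 𝒜 (-(k : ℤ)), V)) :
    F.presheaf.map i.op (locApp hf k t j V h τ) =
      locApp hf k t j W ((leOfHom i).trans h) ((Twist.twist 𝒜 (-(k : ℤ))).presheaf.map i.op τ) := by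
  rw [locApp, locApp, QCoh.map_smul', coord_res, QCoh.map_map]
  rfl

variable (hcompat : ∀ j l,
  F.presheaf.map (homOfLE (inf_le_left : D 𝒜 (f j) ⊓ D 𝒜 (f l) ≤ D 𝒜 (f j))).op (t j) =
    rr (hf j) (hf l) (inf_le_left : D 𝒜 (f j) ⊓ D 𝒜 (f l) ≤ D 𝒜 (f j)) ^ k •
      F.presheaf.map (homOfLE (inf_le_right : D 𝒜 (f j) ⊓ D 𝒜 (f l) ≤ D 𝒜 (f l))).op (t l))

include hcompat in
theorem locApp_compat (j l : κ) (W : (Proj 𝒜).Opens) (h : W ≤ D 𝒜 (f j)) (h' : W ≤ D 𝒜 (f l))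
    (τ : Γ(Twist.twist 𝒜 (-(k : ℤ)), W)) :
    locApp hf k t j W h τ = locApp hf k t l W h' τ := by
  have e := congrArg (F.presheaf.map (homOfLE (le_inf h h')).op) (hcompat j l)
  rw [QCoh.map_map, QCoh.map_smul', map_pow, rr_res, QCoh.map_map] at e
  rw [locApp, locApp, coord_change (hf l) (hf j) k h' h τ]
  refine (congrArg (coord (hf j) _ h τ • ·) e).trans ?_
  rw [mul_comm, mul_smul]
  rfl

include hcompat in
theorem existsUnique_glue (hcov : ⨆ j, D 𝒜 (f j) = ⊤) (U : (Proj 𝒜).Opens)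
    (τ : Γ(Twist.twist 𝒜 (-(k : ℤ)), U)) :
    ∃! y : Γ(F, U), ∀ j, F.presheaf.map (homOfLE (inf_le_left : U ⊓ D 𝒜 (f j) ≤ U)).op y =
      locApp hf k t j _ inf_le_right
        ((Twist.twist 𝒜 (-(k : ℤ))).presheaf.map
          (homOfLE (inf_le_left : U ⊓ D 𝒜 (f j) ≤ U)).op τ) :=
  TopCat.Sheaf.existsUnique_gluing' ⟨F.presheaf, F.isSheaf⟩ (fun j => U ⊓ D 𝒜 (f j)) U
    (fun j => homOfLE inf_le_left) (by rw [← inf_iSup_eq, hcov, inf_top_eq]) _ fun j l => by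
      refine (locApp_res hf k t j _ _ _).trans (Eq.trans ?_ (locApp_res hf k t l _ _ _).symm)
      rw [QCoh.map_map, QCoh.map_map]
      exact locApp_compat hf k t hcompat j l _ _ _ _

variable (hcov : ⨆ j, D 𝒜 (f j) = ⊤)

/-- The glued map on sections. -/
noncomputable def glueApp (U : (Proj 𝒜).Opens) (τ : Γ(Twist.twist 𝒜 (-(k : ℤ)), U)) : Γ(F, U) :=
  (existsUnique_glue hf k t hcompat hcov U τ).choose

theorem glueApp_spec (U : (Proj 𝒜).Opens) (τ : Γ(Twist.twist 𝒜 (-(k : ℤ)), U)) (j : κ)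
    {W : (Proj 𝒜).Opens} (hWU : W ≤ U) (hWj : W ≤ D 𝒜 (f j)) :
    F.presheaf.map (homOfLE hWU).op (glueApp hf k t hcompat hcov U τ) =
      locApp hf k t j W hWj
        ((Twist.twist 𝒜 (-(k : ℤ))).presheaf.map (homOfLE hWU).op τ) := by
  have e := congrArg (F.presheaf.map (homOfLE (le_inf hWU hWj)).op)
    ((existsUnique_glue hf k t hcompat hcov U τ).choose_spec.1 j)
  rw [QCoh.map_map, locApp_res, QCoh.map_map] at e
  exact e

theorem ext_on_cover (hcov : ⨆ j, D 𝒜 (f j) = ⊤) {U : (Proj 𝒜).Opens} {a b : Γ(F, U)}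
    (h : ∀ j, F.presheaf.map (homOfLE (inf_le_left : U ⊓ D 𝒜 (f j) ≤ U)).op a =
      F.presheaf.map (homOfLE (inf_le_left : U ⊓ D 𝒜 (f j) ≤ U)).op b) : a = b :=
  TopCat.Sheaf.eq_of_locally_eq' ⟨F.presheaf, F.isSheaf⟩ (fun j => U ⊓ D 𝒜 (f j)) U
    (fun j => homOfLE inf_le_left) (by rw [← inf_iSup_eq, hcov, inf_top_eq]) a b h

theorem glueApp_add (U : (Proj 𝒜).Opens) (a b : Γ(Twist.twist 𝒜 (-(k : ℤ)), U)) :
    glueApp hf k t hcompat hcov U (a + b) =
      glueApp hf k t hcompat hcov U a + glueApp hf k t hcompat hcov U b :=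
  ext_on_cover hcov fun j => by
    rw [map_add (F.presheaf.map _).hom, glueApp_spec hf k t hcompat hcov _ _ j inf_le_left inf_le_right,
      glueApp_spec hf k t hcompat hcov _ _ j inf_le_left inf_le_right,
      glueApp_spec hf k t hcompat hcov _ _ j inf_le_left inf_le_right, map_add, locApp,
      locApp, locApp, coord_add, add_smul]

theorem glueApp_res {U V : (Proj 𝒜).Opens} (i : V ⟶ U) (τ : Γ(Twist.twist 𝒜 (-(k : ℤ)), U)) :
    glueApp hf k t hcompat hcov V ((Twist.twist 𝒜 (-(k : ℤ))).presheaf.map i.op τ) =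
      F.presheaf.map i.op (glueApp hf k t hcompat hcov U τ) :=
  ext_on_cover hcov fun j => by
    rw [glueApp_spec hf k t hcompat hcov _ _ j inf_le_left inf_le_right, QCoh.map_map, QCoh.map_map]
    exact (glueApp_spec hf k t hcompat hcov U τ j (inf_le_left.trans (leOfHom i)) inf_le_right).symm

theorem glueApp_smul (U : (Proj 𝒜).Opens) (r : Γ(Proj 𝒜, U))
    (τ : Γ(Twist.twist 𝒜 (-(k : ℤ)), U)) :
    glueApp hf k t hcompat hcov U (r • τ) = r • glueApp hf k t hcompat hcov U τ :=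
  ext_on_cover hcov fun j => by
    rw [QCoh.map_smul', glueApp_spec hf k t hcompat hcov _ _ j inf_le_left inf_le_right,
      glueApp_spec hf k t hcompat hcov _ _ j inf_le_left inf_le_right, QCoh.map_smul', locApp,
      coord_smul, mul_smul]
    rfl

/-- The morphism `O(-k) ⟶ F`. -/
noncomputable def homOfFamily : Twist.twist 𝒜 (-(k : ℤ)) ⟶ F :=
  ⟨PresheafOfModules.homMk
    { app := fun U => AddCommGrpCat.ofHom (AddMonoidHom.mk'
        (glueApp hf k t hcompat hcov U.unop) fun a b => glueApp_add hf k t hcompat hcov U.unop a b)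
      naturality := by
        rintro ⟨U⟩ ⟨V⟩ i
        ext τ
        exact glueApp_res hf k t hcompat hcov i.unop τ }
    fun U r τ => glueApp_smul hf k t hcompat hcov U.unop r τ⟩

theorem homOfFamily_app (U : (Proj 𝒜).Opens) (τ : Γ(Twist.twist 𝒜 (-(k : ℤ)), U)) :
    (homOfFamily hf k t hcompat hcov).app U τ = glueApp hf k t hcompat hcov U τ := rfl

theorem mem_range_homOfFamily (j : κ) :
    ∃ τ, (homOfFamily hf k t hcompat hcov).app (D 𝒜 (f j)) τ = t j := by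
  let τ₀ : Γ(Twist.twist 𝒜 (-(k : ℤ)), D 𝒜 (f j)) :=
    triv (hf j) (-(k : ℤ)) (nonVan_of_le le_rfl) (1 : Γ(Proj 𝒜, D 𝒜 (f j)))
  have hc : coord (hf j) (-(k : ℤ)) (le_refl (D 𝒜 (f j))) τ₀ = 1 :=
    (triv (hf j) (-(k : ℤ)) (nonVan_of_le le_rfl)).symm_apply_apply _
  have e := glueApp_spec hf k t hcompat hcov _ τ₀ j (le_refl (D 𝒜 (f j))) le_rfl
  rw [QCoh.map_id', QCoh.map_id', locApp, QCoh.map_id', hc, one_smul] at e
  exact ⟨τ₀, (homOfFamily_app hf k t hcompat hcov _ _).trans e⟩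

end Groth.Agent.PnCoh.Finite
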