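import Groth.Agent.PnCoh.Finite.SecFinite
import Groth.Agent.PnCoh.Finite.HomGlue
import Groth.Agent.PnCoh.Finite.HHLin
import Groth.Agent.PnCoh.TwistQCoh
import Groth.Agent.QCoh.Bound
import Mathlib.CategoryTheory.Preadditive.Biproducts
import Mathlib.AlgebraicGeometry.ProjectiveSpectrum.Proper

/-!
# Coherent modules on `Proj` generated in degree one
-/

universe u

open CategoryTheory CategoryTheory.Limits AlgebraicGeometry TopologicalSpace Opposite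

namespace Groth.Agent.PnCoh.Finite

attribute [local instance] Abelian.hasFiniteBiproducts

variable {R A : Type u} [CommRing R] [CommRing A] [Algebra R A]
  {𝒜 : ℕ → Submodule R A} [GradedAlgebra 𝒜] {κ : Type u} {f : κ → A}

/-- Quasi-coherent with finite sections on the given opens. -/
def Good (f : κ → A) (F : (Proj 𝒜).Modules) : Prop :=
  Coh.IsQCoh F ∧ ∀ j, Module.Finite Γ(Proj 𝒜, D 𝒜 (f j)) Γ(F, D 𝒜 (f j))

theorem isAffineOpen_D (hf : ∀ i, f i ∈ 𝒜 1) (i : κ) : IsAffineOpen (D 𝒜 (f i)) :=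
  Proj.isAffineOpen_basicOpen 𝒜 (f i) (hf i) Nat.one_pos

theorem isAffineOpen_D₂ (hf : ∀ i, f i ∈ 𝒜 1) (i j : κ) :
    IsAffineOpen (D 𝒜 (f i) ⊓ D 𝒜 (f j)) := by
  rw [show D 𝒜 (f i) ⊓ D 𝒜 (f j) = Proj.basicOpen 𝒜 (f i * f j) from
    (Proj.basicOpen_mul 𝒜 _ _).symm]
  exact Proj.isAffineOpen_basicOpen 𝒜 _ (SetLike.mul_mem_graded (hf i) (hf j)) (by omega)

theorem good_of_isCoh (hf : ∀ i, f i ∈ 𝒜 1) {F : (Proj 𝒜).Modules} (hF : Coh.IsCoh F) :
    Good f F :=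
  ⟨hF.1, fun j => finite_sections hF.1 hF.2 (isAffineOpen_D hf j)⟩

/-- A map out of quasi-coherent modules is zero if it is zero on sections over an affine cover. -/
theorem eq_of_app_eq_cover {F T : (Proj 𝒜).Modules} (hF : Coh.IsQCoh F) (hf : ∀ i, f i ∈ 𝒜 1)
    (hcov : ⨆ j, D 𝒜 (f j) = ⊤) (g g' : F ⟶ T)
    (h : ∀ j y, g.app (D 𝒜 (f j)) y = g'.app (D 𝒜 (f j)) y) : g = g' := by
  refine Scheme.Modules.hom_ext _ _ fun U => ?_
  ext y
  refine TopCat.Sheaf.eq_of_locally_eq' ⟨T.presheaf, T.isSheaf⟩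
    (fun p : {p : Σ j, Γ(Proj 𝒜, D 𝒜 (f j)) // (Proj 𝒜).basicOpen p.2 ≤ U} =>
      (Proj 𝒜).basicOpen p.1.2) U (fun p => homOfLE p.2) ?_ _ _ fun p => ?_
  · intro x hx
    obtain ⟨j, hxj⟩ := Opens.mem_iSup.1 (hcov ▸ (trivial : x ∈ (⊤ : (Proj 𝒜).Opens)) :
      x ∈ ⨆ j, D 𝒜 (f j))
    obtain ⟨r, hr, hxr⟩ := (isAffineOpen_D hf j).exists_basicOpen_le (V := U) ⟨x, hx⟩ hxj
    exact Opens.mem_iSup.2 ⟨⟨⟨j, r⟩, hr⟩, hxr⟩
  · obtain ⟨⟨j, r⟩, hr⟩ := p
    show T.presheaf.map (homOfLE hr).op (g.app U y) = T.presheaf.map (homOfLE hr).op (g'.app U y)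
    rw [← QCoh.map_app_comm, ← QCoh.map_app_comm]
    obtain ⟨n, t, ht⟩ := QCoh.exists_pow_smul_eq_map hF (isAffineOpen_D hf j) r
      (F.presheaf.map (homOfLE hr).op y)
    have e : g.app _ (F.presheaf.map (homOfLE ((Proj 𝒜).basicOpen_le r)).op t) =
        g'.app _ (F.presheaf.map (homOfLE ((Proj 𝒜).basicOpen_le r)).op t) := by
      rw [QCoh.map_app_comm, QCoh.map_app_comm, h j t]
    rw [ht, Scheme.Modules.Hom.app_smul, Scheme.Modules.Hom.app_smul] at e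
    have hu : IsUnit ((Proj 𝒜).presheaf.map (homOfLE ((Proj 𝒜).basicOpen_le r)).op r) :=
      RingedSpace.isUnit_res_basicOpen _ r
    exact (hu.pow n).smul_left_cancel.1 e

theorem finite_twist_sections (hf : ∀ i, f i ∈ 𝒜 1) (d : ℤ) (j : κ) :
    Module.Finite Γ(Proj 𝒜, D 𝒜 (f j)) Γ(Twist.twist 𝒜 d, D 𝒜 (f j)) :=
  Module.Finite.of_surjective
    (LinearMap.toSpanSingleton Γ(Proj 𝒜, D 𝒜 (f j)) Γ(Twist.twist 𝒜 d, D 𝒜 (f j))
      (twPow (hf j) d (nonVan_of_le (le_refl (D 𝒜 (f j))))))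
    (trivMap_bijective (hf j) d _).2

/-- A map out of a sum is an epimorphism if its components generate the sections on the cover. -/
theorem epi_desc (hf : ∀ i, f i ∈ 𝒜 1) (hcov : ⨆ j, D 𝒜 (f j) = ⊤) {F : (Proj 𝒜).Modules}
    (hF : Coh.IsQCoh F) {β : Type u} [Fintype β] (T : β → (Proj 𝒜).Modules) (ψ : ∀ b, T b ⟶ F)
    (hgen : ∀ j, Submodule.span Γ(Proj 𝒜, D 𝒜 (f j))
      {z : Γ(F, D 𝒜 (f j)) | ∃ b τ, (ψ b).app (D 𝒜 (f j)) τ = z} = ⊤) :
    Epi (biproduct.desc ψ) := by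
  refine ⟨fun {Z} g g' e => eq_of_app_eq_cover hF hf hcov g g' fun j y => ?_⟩
  have hy : y ∈ Submodule.span Γ(Proj 𝒜, D 𝒜 (f j))
      {z : Γ(F, D 𝒜 (f j)) | ∃ b τ, (ψ b).app (D 𝒜 (f j)) τ = z} := hgen j ▸ Submodule.mem_top
  induction hy using Submodule.span_induction with
  | mem z hz =>
    obtain ⟨b, τ, rfl⟩ := hz
    have e' : ψ b ≫ g = ψ b ≫ g' := by
      rw [← biproduct.ι_desc ψ b, Category.assoc, Category.assoc, e]
    exact congrArg (fun χ : T b ⟶ Z => χ.app (D 𝒜 (f j)) τ) e'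
  | zero => rw [map_zero, map_zero]
  | add a b _ _ ha hb => rw [map_add, map_add, ha, hb]
  | smul r a _ ha => rw [Scheme.Modules.Hom.app_smul, Scheme.Modules.Hom.app_smul, ha]

theorem biproduct_total {β : Type u} [Fintype β] (T : β → (Proj 𝒜).Modules) :
    ∑ b, biproduct.π T b ≫ biproduct.ι T b = 𝟙 (⨁ T) := by
  classical
  refine biproduct.hom_ext' _ _ fun j => ?_
  rw [Preadditive.comp_sum, Finset.sum_eq_single j]
  · simp
  · intro b _ hb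
    rw [← Category.assoc, biproduct.ι_π_ne T (Ne.symm hb), zero_comp]
  · simp

/-- Sections on an open, linearly over its ring of functions. -/
noncomputable def appLin {M N : (Proj 𝒜).Modules} (φ : M ⟶ N) (U : (Proj 𝒜).Opens) :
    Γ(M, U) →ₗ[Γ(Proj 𝒜, U)] Γ(N, U) where
  toFun := φ.app U
  map_add' := map_add _
  map_smul' := Scheme.Modules.Hom.app_smul _

theorem finite_sections_biproduct {β : Type u} [Fintype β] (T : β → (Proj 𝒜).Modules)
    (U : (Proj 𝒜).Opens) (h : ∀ b, Module.Finite Γ(Proj 𝒜, U) Γ(T b, U)) :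
    Module.Finite Γ(Proj 𝒜, U) Γ(⨁ T, U) := by
  classical
  haveI := h
  let L : (∀ b, Γ(T b, U)) →ₗ[Γ(Proj 𝒜, U)] Γ(⨁ T, U) :=
    ∑ b, (appLin (biproduct.ι T b) U).comp (LinearMap.proj b)
  refine Module.Finite.of_surjective L fun x => ⟨fun b => (biproduct.π T b).app U x, ?_⟩
  rw [LinearMap.sum_apply]
  have h2 : ∀ s : Finset β,
      ∑ b ∈ s, (biproduct.π T b ≫ biproduct.ι T b).app U x =
        (∑ b ∈ s, biproduct.π T b ≫ biproduct.ι T b).app U x := fun s => by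
    induction s using Finset.induction with
    | empty => rw [Finset.sum_empty, Finset.sum_empty]; rfl
    | insert a s ha ih => rw [Finset.sum_insert ha, Finset.sum_insert ha, ih]; rfl
  refine (h2 Finset.univ).trans ?_
  rw [biproduct_total]
  rfl

/-- A coherent module is a quotient of a finite sum of twists, with a coherent kernel. -/
theorem exists_presentation [Finite κ] (hf : ∀ i, f i ∈ 𝒜 1) (hcov : ⨆ j, D 𝒜 (f j) = ⊤)
    (hnoeth : ∀ j, IsNoetherianRing Γ(Proj 𝒜, D 𝒜 (f j))) {F : (Proj 𝒜).Modules} (hF : Good f F) :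
    ∃ (ι : Type u) (_ : Fintype ι) (d : ι → ℤ) (S : ShortComplex (Proj 𝒜).Modules)
      (p : ∀ a, S.X₂ ⟶ Twist.twist 𝒜 (d a)) (q : ∀ a, Twist.twist 𝒜 (d a) ⟶ S.X₂),
      S.ShortExact ∧ S.X₃ = F ∧ Good f S.X₁ ∧ Coh.IsQCoh S.X₂ ∧ ∑ a, p a ≫ q a = 𝟙 S.X₂ := by
  classical
  haveI := Fintype.ofFinite κ
  choose m w hw using fun j => (haveI := hF.2 j; Module.Finite.exists_fin (R := Γ(Proj 𝒜, D 𝒜 (f j))) (M := Γ(F, D 𝒜 (f j))))
  have hfam : ∀ j (a : Fin (m j)), ∃ (k : ℕ) (ψ : Twist.twist 𝒜 (-(k : ℤ)) ⟶ F),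
      ∃ τ, ψ.app (D 𝒜 (f j)) τ = w j a := fun j a => by
    obtain ⟨k, t, hti, hcompat⟩ := exists_family hf hF.1 (isAffineOpen_D hf) (isAffineOpen_D₂ hf) j
      (w j a)
    exact ⟨k, homOfFamily hf k t hcompat hcov, hti ▸ mem_range_homOfFamily hf k t hcompat hcov j⟩
  choose k ψ τ hτ using hfam
  let T : (Σ j, Fin (m j)) → (Proj 𝒜).Modules := fun b => Twist.twist 𝒜 (-(k b.1 b.2 : ℤ))
  let φ : (⨁ T) ⟶ F := biproduct.desc fun b => ψ b.1 b.2
  haveI : Epi φ := epi_desc hf hcov hF.1 T (fun b => ψ b.1 b.2) fun j =>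
    le_antisymm le_top ((hw j).ge.trans (Submodule.span_mono (by
      rintro _ ⟨a, rfl⟩
      exact ⟨⟨j, a⟩, τ j a, hτ j a⟩)))
  let S : ShortComplex (Proj 𝒜).Modules := ShortComplex.mk (kernel.ι φ) φ (kernel.condition φ)
  have hS : S.ShortExact :=
    { exact := ShortComplex.exact_of_f_is_kernel _ (kernelIsKernel φ) }
  have htot : ∑ b, biproduct.π T b ≫ biproduct.ι T b = 𝟙 (⨁ T) := biproduct_total T
  have hE : Coh.IsQCoh (⨁ T) := by
    refine (QCoh.isQCoh_iff_iso (biproduct.isoCoproduct T)).2 ?_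
    refine QCoh.isQCoh_colimit (Discrete.functor T) fun b => ?_
    exact isQCoh_twist f hf hcov _
  have hfin : ∀ j, Module.Finite Γ(Proj 𝒜, D 𝒜 (f j)) Γ(⨁ T, D 𝒜 (f j)) := fun j =>
    finite_sections_biproduct T _ fun b => finite_twist_sections hf (-(k b.1 b.2 : ℤ)) j
  refine ⟨Σ j, Fin (m j), inferInstance, fun b => -(k b.1 b.2 : ℤ), S, biproduct.π T,
    biproduct.ι T, hS, rfl, ⟨QCoh.isQCoh_kernel hE hF.1 φ, fun j => ?_⟩, hE, htot⟩
  haveI := hnoeth j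
  exact finite_sections_X₁ hS _ (hfin j)

/-- Finiteness by descending induction. -/
theorem finite_HH (R₀ : Type u) [CommRing R₀] [IsNoetherianRing R₀]
    [(Proj 𝒜).Over (Spec (CommRingCat.of R₀))] [Finite κ] (hf : ∀ i, f i ∈ 𝒜 1)
    (hcov : ⨆ j, D 𝒜 (f j) = ⊤) (hnoeth : ∀ j, IsNoetherianRing Γ(Proj 𝒜, D 𝒜 (f j)))
    (N : ℕ) (hvan : ∀ M : (Proj 𝒜).Modules, Coh.IsQCoh M → ∀ i, N ≤ i →
      Subsingleton (Coh.HH (Proj 𝒜) M i))
    (htw : ∀ (d : ℤ) i, Module.Finite R₀ (Coh.HH (Proj 𝒜) (Twist.twist 𝒜 d) i))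
    (F : (Proj 𝒜).Modules) (hF : Good f F) (i : ℕ) : Module.Finite R₀ (Coh.HH (Proj 𝒜) F i) := by
  suffices ∀ m i, N ≤ i + m → ∀ F : (Proj 𝒜).Modules, Good f F →
      Module.Finite R₀ (Coh.HH (Proj 𝒜) F i) from this N i (Nat.le_add_left _ _) F hF
  intro m
  induction m with
  | zero =>
    intro i hi F hF
    haveI := hvan F hF.1 i hi
    infer_instance
  | succ m ih =>
    intro i hi F hF
    obtain ⟨ι, _, d, S, p, q, hS, rfl, hK, -, hpq⟩ := exists_presentation hf hcov hnoeth hF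
    exact finite_HH_X₃ R₀ hS i
      (finite_HH_of_decomposition R₀ (fun a => Twist.twist 𝒜 (d a)) p q hpq i fun a => htw (d a) i)
      (ih (i + 1) (by omega) S.X₁ hK)

end Groth.Agent.PnCoh.Finite
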