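import Groth.Prelude.Def_Coh
import Groth.Agent.FDescent.ModEpi
import Groth.Agent.QCoh.Localize
import Groth.Agent.QCoh.Extension

/-!
# Sections of quasi-coherent modules of finite type on affine opens
-/

universe u

open CategoryTheory CategoryTheory.Limits AlgebraicGeometry Opposite TopologicalSpace

namespace Groth.Agent.PnCoh.Finite

variable {X : Scheme.{u}}

/-- Restriction of a linear combination. -/
theorem map_mem_span {M : X.Modules} {U V : X.Opens} (i : V ⟶ U) {κ : Type*} (w : κ → Γ(M, U))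
    {z : Γ(M, U)} (hz : z ∈ Submodule.span Γ(X, U) (Set.range w)) :
    M.presheaf.map i.op z ∈
      Submodule.span Γ(X, V) (Set.range fun j => M.presheaf.map i.op (w j)) := by
  induction hz using Submodule.span_induction with
  | mem a ha =>
    obtain ⟨j, rfl⟩ := ha
    exact Submodule.subset_span ⟨j, rfl⟩
  | zero => rw [map_zero]; exact Submodule.zero_mem _
  | add a b _ _ ha hb => rw [map_add]; exact Submodule.add_mem _ ha hb
  | smul r a _ ha => rw [QCoh.map_smul']; exact Submodule.smul_mem _ _ ha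

/-- The value of a generator on an open of the over-category. -/
noncomputable def genSec {M : X.Modules} {U : X.Opens}
    (G : (SheafOfModules.over M U).GeneratingSections) (W₀ : Over U) (j : G.I) : Γ(M, W₀.left) :=
  (G.s j).eval (op W₀)

theorem genSec_res {M : X.Modules} {U : X.Opens}
    (G : (SheafOfModules.over M U).GeneratingSections) (W₀ : Over U) (j : G.I) :
    M.presheaf.map (homOfLE (leOfHom W₀.hom)).op (genSec G (Over.mk (𝟙 U)) j) = genSec G W₀ j :=
  (G.s j).property (Over.homMk W₀.hom (by simp) : W₀ ⟶ Over.mk (𝟙 U)).op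

/-- Sections are locally combinations of generators. -/
theorem exists_over_span (M : X.Modules) (U : X.Opens)
    (G : (SheafOfModules.over M U).GeneratingSections) [Finite G.I] (V : X.Opens) (m : Γ(M, V))
    (y : X) (hyV : y ∈ V) (hyU : y ∈ U) :
    ∃ (W₀ : Over U) (hWV : W₀.left ≤ V), y ∈ W₀.left ∧
      M.presheaf.map (homOfLE hWV).op m ∈
        Submodule.span Γ(X, W₀.left) (Set.range (genSec G W₀)) := by
  let V' : X.Opens := U ⊓ V
  let V₀ : Over U := Over.mk (homOfLE inf_le_left : V' ⟶ U)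
  let m' : (SheafOfModules.over M U).val.obj (op V₀) :=
    M.presheaf.map (homOfLE inf_le_right : V' ⟶ V).op m
  obtain ⟨S, hS, hz⟩ := FDescent.exists_cover_eq_app G.π V₀ m'
  rw [GrothendieckTopology.mem_over_iff] at hS
  obtain ⟨W, i, hi, hyW⟩ := hS y ⟨hyU, hyV⟩
  obtain ⟨W₀, i₀, h, hSi, -⟩ := hi
  obtain ⟨z, hz'⟩ := hz i₀ hSi
  have hspan := FDescent.app_mem_span G (op W₀) z
  rw [hz'] at hspan
  have hWV : W₀.left ≤ V := (leOfHom i₀.left).trans inf_le_right
  have e2 : M.presheaf.map (homOfLE hWV).op m =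
      M.presheaf.map i₀.left.op (M.presheaf.map (homOfLE inf_le_right : V' ⟶ V).op m) :=
    (QCoh.map_map i₀.left _ m).symm
  refine ⟨W₀, hWV, h.le hyW, ?_⟩
  rw [e2]
  exact hspan

/-- Generators near a point of a module of finite type. -/
theorem exists_local_span (M : X.Modules)
    [hM : SheafOfModules.IsFiniteType (R := X.ringCatSheaf) M] (x : X) :
    ∃ (U : X.Opens) (_ : x ∈ U) (κ : Type u) (_ : Finite κ) (t : κ → Γ(M, U)),
      ∀ (V : X.Opens) (m : Γ(M, V)), ∀ y ∈ V, y ∈ U → ∃ (W : X.Opens) (hWU : W ≤ U) (hWV : W ≤ V),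
        y ∈ W ∧ M.presheaf.map (homOfLE hWV).op m ∈
          Submodule.span Γ(X, W) (Set.range fun j => M.presheaf.map (homOfLE hWU).op (t j)) := by
  obtain ⟨σ, hσ⟩ := hM.exists_localGeneratorsData
  obtain ⟨k, hk⟩ := ((Opens.coversTop_iff _ σ.X).1 σ.coversTop).exists_mem x
  let G := σ.generators k
  haveI : Finite G.I := (hσ.isFiniteType k).finite
  let U := σ.X k
  let t : G.I → Γ(M, U) := genSec G (Over.mk (𝟙 U))
  refine ⟨U, hk, G.I, inferInstance, t, fun V m y hyV hyU => ?_⟩
  have h := exists_over_span M U G V m y hyV hyU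
  obtain ⟨W₀, hWV, h1, h2⟩ := h
  refine ⟨W₀.left, leOfHom W₀.hom, hWV, h1, ?_⟩
  have e : (fun j => M.presheaf.map (homOfLE (leOfHom W₀.hom)).op (t j)) = genSec G W₀ :=
    funext fun j => genSec_res G W₀ j
  exact (congrArg (fun w : G.I → Γ(M, W₀.left) =>
    M.presheaf.map (homOfLE hWV).op m ∈ Submodule.span Γ(X, W₀.left) (Set.range w)) e).mpr h2

/-- A finite family of sections over a basic open comes from the whole affine up to a power. -/
theorem exists_lift_family {M : X.Modules} (hM : Coh.IsQCoh M) {V : X.Opens} (hV : IsAffineOpen V)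
    (g : Γ(X, V)) {κ : Type*} [Finite κ] (w : κ → Γ(M, X.basicOpen g)) :
    ∃ (a : κ → Γ(M, V)) (n : κ → ℕ), ∀ j, M.presheaf.map (homOfLE (X.basicOpen_le g)).op (a j) =
      X.presheaf.map (homOfLE (X.basicOpen_le g)).op g ^ n j • w j := by
  choose n a ha using fun j => QCoh.exists_pow_smul_eq_map hM hV g (w j)
  exact ⟨a, n, ha⟩

/-- Sections of a quasi-coherent module of finite type on an affine open form a finite module. -/
theorem finite_sections {M : X.Modules} (hM : Coh.IsQCoh M)
    (hft : SheafOfModules.IsFiniteType (R := X.ringCatSheaf) M) {V : X.Opens} (hV : IsAffineOpen V) :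
    Module.Finite Γ(X, V) Γ(M, V) := by
  choose U hxU κ hκ t ht using fun x : (V : Set X) => exists_local_span M (hM := hft) x.1
  choose g hgle hxg using fun x : (V : Set X) =>
    hV.exists_basicOpen_le (V := U x) ⟨x.1, hxU x⟩ x.2
  obtain ⟨T, hT⟩ := hV.isCompact.elim_finite_subcover (fun x => (X.basicOpen (g x) : Set X))
    (fun x => (X.basicOpen (g x)).isOpen) (fun x hx => Set.mem_iUnion.2 ⟨⟨x, hx⟩, hxg ⟨x, hx⟩⟩)
  choose a n ha using fun x : (V : Set X) => exists_lift_family hM hV (g x)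
    (fun j => M.presheaf.map (homOfLE (hgle x)).op (t x j))
  let N : Submodule Γ(X, V) Γ(M, V) :=
    Submodule.span _ (Set.range fun p : Σ x : T, κ x.1 => a p.1.1 p.2)
  have hN : N.FG := by
    refine Submodule.fg_span ?_
    exact Set.finite_range _
  refine ⟨?_⟩
  suffices h : N = ⊤ by rwa [h] at hN
  refine eq_top_iff.2 fun m _ => ?_
  let I : Ideal Γ(X, V) := N.colon {m}
  suffices hI : I = ⊤ by
    have h1 : (1 : Γ(X, V)) ∈ I := hI ▸ Submodule.mem_top
    simpa using Submodule.mem_colon_singleton.1 h1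
  rw [← I.span_eq, ← hV.self_le_iSup_basicOpen_iff]
  intro y hy
  obtain ⟨x, hxT, hyg⟩ := Set.mem_iUnion₂.1 (hT hy)
  obtain ⟨W, hWU, hWV, hyW, hspan⟩ := ht x V m y hy (hgle x hyg)
  obtain ⟨h, hhle, hyh⟩ := hV.exists_basicOpen_le (V := W ⊓ X.basicOpen (g x)) ⟨y, hyW, hyg⟩ hy
  have hhW : X.basicOpen h ≤ W := hhle.trans inf_le_left
  have hhg : X.basicOpen h ≤ X.basicOpen (g x) := hhle.trans inf_le_right
  let ρ := X.presheaf.map (homOfLE (X.basicOpen_le h)).op
  let μ := M.presheaf.map (homOfLE (X.basicOpen_le h)).op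
  have hgu : IsUnit (ρ (g x)) := by
    have := (RingedSpace.isUnit_res_basicOpen X.toRingedSpace (g x)).map
      (X.presheaf.map (homOfLE hhg).op).hom
    convert this using 1
    exact (QCoh.ringMap_map _ _ _).symm
  have hm : μ m ∈ Submodule.span Γ(X, X.basicOpen h) (Set.range fun j => μ (a x j)) := by
    have h1 := map_mem_span (homOfLE hhW) _ hspan
    rw [QCoh.map_map] at h1
    refine Submodule.span_le.2 ?_ h1
    rintro _ ⟨j, rfl⟩
    have h2 := congrArg (M.presheaf.map (homOfLE hhg).op) (ha x j)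
    rw [QCoh.map_smul', map_pow, QCoh.ringMap_map, QCoh.map_map] at h2
    refine (Submodule.smul_mem_iff_of_isUnit _ (hgu.pow (n x j))).1 ?_
    refine Submodule.subset_span ⟨j, h2.trans ?_⟩
    congr 1
    beta_reduce
    erw [QCoh.map_map, QCoh.map_map]
    rfl
  haveI := hV.isLocalization_basicOpen h
  have key : ∀ z ∈ Submodule.span Γ(X, X.basicOpen h) (Set.range fun j => μ (a x j)),
      ∃ (e : ℕ) (z' : Γ(M, V)), z' ∈ N ∧ μ z' = ρ h ^ e • z := by
    intro z hz
    induction hz using Submodule.span_induction with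
    | mem b hb =>
      obtain ⟨j, rfl⟩ := hb
      exact ⟨0, a x j, Submodule.subset_span ⟨⟨⟨x, hxT⟩, j⟩, rfl⟩, by simp⟩
    | zero => exact ⟨0, 0, N.zero_mem, by simp⟩
    | add b c _ _ hb hc =>
      obtain ⟨e, b', hb', eb⟩ := hb
      obtain ⟨e', c', hc', ec⟩ := hc
      refine ⟨e + e', h ^ e' • b' + h ^ e • c', N.add_mem (N.smul_mem _ hb') (N.smul_mem _ hc'), ?_⟩
      simp only [μ, map_add, QCoh.map_smul', map_pow]
      rw [show M.presheaf.map (homOfLE (X.basicOpen_le h)).op b' = ρ h ^ e • b from eb,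
        show M.presheaf.map (homOfLE (X.basicOpen_le h)).op c' = ρ h ^ e' • c from ec]
      rw [smul_add, ← mul_smul, ← mul_smul, ← pow_add, ← pow_add, add_comm e']
    | smul r b _ hb =>
      obtain ⟨e, b', hb', eb⟩ := hb
      obtain ⟨⟨r', _, k, rfl⟩, hr⟩ := IsLocalization.surj (Submonoid.powers h) r
      refine ⟨k + e, r' • b', N.smul_mem _ hb', ?_⟩
      refine (QCoh.map_smul' _ r' b').trans ?_
      rw [show M.presheaf.map (homOfLE (X.basicOpen_le h)).op b' = ρ h ^ e • b from eb,
        show X.presheaf.map (homOfLE (X.basicOpen_le h)).op r' = r * ρ (h ^ k) from hr.symm,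
        map_pow, pow_add, ← mul_smul, ← mul_smul]
      congr 1
      ring
  obtain ⟨e, z', hz', ez⟩ := key _ hm
  obtain ⟨b, hb⟩ := QCoh.exists_pow_smul_eq_zero hM hV h (h ^ e • m - z') (by
    rw [map_sub, QCoh.map_smul', map_pow]
    exact sub_eq_zero.2 ez.symm)
  refine Opens.mem_iSup.2 ⟨⟨h ^ (b + e + 1), ?_⟩, ?_⟩
  · refine Submodule.mem_colon_singleton.2 ?_
    rw [smul_sub, sub_eq_zero, ← mul_smul, ← pow_add] at hb
    rw [pow_succ', mul_smul, hb]
    exact N.smul_mem _ (N.smul_mem _ hz')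
  · rw [X.basicOpen_pow h (Nat.succ_pos _)]
    exact hyh

/-- Kernels keep finite sections over a noetherian ring of functions. -/
theorem finite_sections_X₁ {S : ShortComplex X.Modules} (hS : S.ShortExact) (V : X.Opens)
    [IsNoetherianRing Γ(X, V)] (h : Module.Finite Γ(X, V) Γ(S.X₂, V)) :
    Module.Finite Γ(X, V) Γ(S.X₁, V) :=
  haveI := h
  Module.Finite.of_injective
    ({ toFun := S.f.app V
       map_add' := map_add _
       map_smul' := fun r x => Scheme.Modules.Hom.app_smul S.f r x } :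
      Γ(S.X₁, V) →ₗ[Γ(X, V)] Γ(S.X₂, V)) (QCoh.app_f_injective hS V)

end Groth.Agent.PnCoh.Finite
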